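import Groth.Agent.UCurves.Branch

/-! Spanning monomials of the curve algebras, and the converse to independence. -/

set_option autoImplicit false
universe u

namespace Groth.UCurves

open W4c5m1nsnscurves MvPolynomial

variable {R : Type u} [CommRing R] {m : ℕ} (v : UGen m → R)

/-- The degree of an index of the monomial family. -/
def cdeg : Option (ℕ ⊕ (CVar m × ℕ)) → ℕ
  | none => 0
  | some (Sum.inl k) => k + 2
  | some (Sum.inr (_, k)) => k + 1

/-- The class of a variable. -/
noncomputable abbrev cx (g : CVar m) : CurveAlg R m v := Ideal.Quotient.mk (Ideal.span (CRel R m v)) (X g)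

/-- Constants of the curve algebra. -/
noncomputable abbrev cc (g : UGen m) : CurveAlg R m v := algebraMap R _ (v g)

theorem pt_cx : Pt (cc v) (cx v) := by
  have h : ∀ p ∈ CRel R m v, Ideal.Quotient.mk (Ideal.span (CRel R m v)) p = 0 := fun p hp =>
    Ideal.Quotient.eq_zero_iff_mem.2 (Ideal.subset_span hp)
  have hC : ∀ r : R, Ideal.Quotient.mk (Ideal.span (CRel R m v)) (C r) = algebraMap R (CurveAlg R m v) r :=
    fun r => rfl
  refine ⟨fun i => ?_, fun i => ?_, fun i j hij => ?_⟩
  · have := h _ (Or.inl (Or.inl ⟨i, rfl⟩))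
    simp only [map_sub, map_add, map_mul, hC] at this
    linear_combination this
  · have := h _ (Or.inl (Or.inr ⟨i, rfl⟩))
    simp only [map_sub, map_add, map_mul, hC] at this
    simp only [al, cc]
    linear_combination this
  · have := h _ (Or.inr ⟨⟨(i, j), hij⟩, rfl⟩)
    simp only [map_sub, map_add, map_mul, hC] at this
    linear_combination this

theorem plane_cubic_cx (i : Fin m) :
    cx v .x2 * cx v .x3 ^ 2 - cx v .x2 ^ 2 * cx v .x3 = cc v .a * cx v .x2 * cx v .x3 +
      (cc v .cb - cc v .c) * cx v .x2 + cc v .c * cx v .x3 + algebraMap R _ (dval v i) := by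
  have := plane_cubic ((pt_cx v).two i) ((pt_cx v).three i)
  rw [this]
  simp [dval, al]

theorem cmon_inr (g : CVar m) (k : ℕ) : cmon R m v (some (Sum.inr (g, k))) = cx v g ^ (k + 1) :=
  map_pow _ _ _

theorem cmon_inl (k : ℕ) : cmon R m v (some (Sum.inl k)) = cx v .x2 ^ (k + 1) * cx v .x3 := by
  show Ideal.Quotient.mk _ (X CVar.x2 ^ (k + 1) * X CVar.x3) = _
  rw [map_mul, map_pow]

/-- Combinations of monomials of bounded degree. -/
noncomputable def lvl (d : ℕ) : Submodule R (CurveAlg R m v) :=
  Submodule.span R (cmon R m v '' {o | cdeg o ≤ d})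

theorem lvl_mono {d e : ℕ} (h : d ≤ e) : lvl v d ≤ lvl v e :=
  Submodule.span_mono (Set.image_mono fun _ ho => le_trans ho h)

theorem cmon_mem (o : Option (ℕ ⊕ (CVar m × ℕ))) {d : ℕ} (h : cdeg o ≤ d) : cmon R m v o ∈ lvl v d :=
  Submodule.subset_span ⟨o, h, rfl⟩

theorem scalar_mul_mem {d : ℕ} (r : R) {z : CurveAlg R m v} (hz : z ∈ lvl v d) :
    algebraMap R _ r * z ∈ lvl v d := by
  rw [← Algebra.smul_def]
  exact (lvl v d).smul_mem r hz

theorem pow_mem_lvl (g : CVar m) (k : ℕ) : cx v g ^ k ∈ lvl v k := by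
  rcases k with _ | k
  · rw [pow_zero]; exact cmon_mem v none le_rfl
  · rw [← cmon_inr]; exact cmon_mem v _ le_rfl

/-- The monomials in `x₂, x₃`. -/
theorem x2x3_mem (i₀ : Fin m) : ∀ r l : ℕ, cx v .x2 ^ l * cx v .x3 ^ r ∈ lvl v (l + r) := by
  intro r
  induction r using Nat.strong_induction_on with
  | _ r ih =>
    intro l
    rcases r with _ | _ | r
    · simpa using pow_mem_lvl v .x2 l
    · rcases l with _ | l
      · simpa using pow_mem_lvl v .x3 1
      · rw [pow_one, ← cmon_inl]; exact cmon_mem v _ le_rfl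
    · rcases l with _ | l
      · simpa using pow_mem_lvl v .x3 (r + 2)
      · have e : cx v .x2 ^ (l + 1) * cx v .x3 ^ (r + 2) =
            cx v .x2 ^ (l + 2) * cx v .x3 ^ (r + 1) + cc v .a * (cx v .x2 ^ (l + 1) * cx v .x3 ^ (r + 1)) +
              (cc v .cb - cc v .c) * (cx v .x2 ^ (l + 1) * cx v .x3 ^ r) +
              cc v .c * (cx v .x2 ^ l * cx v .x3 ^ (r + 1)) +
              algebraMap R _ (dval v i₀) * (cx v .x2 ^ l * cx v .x3 ^ r) := by
          linear_combination (cx v .x2 ^ l * cx v .x3 ^ r) * plane_cubic_cx v i₀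
        rw [e]
        have h1 := lvl_mono v (show l + 2 + (r + 1) ≤ l + 1 + (r + 2) by omega) (ih (r + 1) (by omega) (l + 2))
        have h2 := lvl_mono v (show l + 1 + (r + 1) ≤ l + 1 + (r + 2) by omega) (ih (r + 1) (by omega) (l + 1))
        have h3 := lvl_mono v (show l + 1 + r ≤ l + 1 + (r + 2) by omega) (ih r (by omega) (l + 1))
        have h4 := lvl_mono v (show l + (r + 1) ≤ l + 1 + (r + 2) by omega) (ih (r + 1) (by omega) l)
        have h5 := lvl_mono v (show l + r ≤ l + 1 + (r + 2) by omega) (ih r (by omega) l)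
        rw [sub_mul]
        exact add_mem (add_mem (add_mem (add_mem h1 (scalar_mul_mem v _ h2))
          (sub_mem (scalar_mul_mem v _ h3) (scalar_mul_mem v _ h3))) (scalar_mul_mem v _ h4))
          (scalar_mul_mem v _ h5)

/-- The monomials in `x₂, x₃` of bounded degree. -/
noncomputable def pol (d : ℕ) : Submodule R (CurveAlg R m v) :=
  Submodule.span R {z | ∃ l r : ℕ, l + r ≤ d ∧ z = cx v .x2 ^ l * cx v .x3 ^ r}

theorem pol_le (i₀ : Fin m) (d : ℕ) : pol v d ≤ lvl v d :=
  Submodule.span_le.2 fun _ ⟨l, r, h, e⟩ => e ▸ lvl_mono v h (x2x3_mem v i₀ r l)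

theorem x2_mul_pol {d : ℕ} {z : CurveAlg R m v} (hz : z ∈ pol v d) : cx v .x2 * z ∈ pol v (d + 1) := by
  induction hz using Submodule.span_induction with
  | mem z hz =>
    obtain ⟨l, r, h, rfl⟩ := hz
    exact Submodule.subset_span ⟨l + 1, r, by omega, by ring⟩
  | zero => rw [mul_zero]; exact zero_mem _
  | add y z _ _ hy hz => rw [mul_add]; exact add_mem hy hz
  | smul r z _ hz => rw [mul_smul_comm]; exact Submodule.smul_mem _ r hz

theorem mul_mem_lvl (i₀ : Fin m) : ∀ d,
    (∀ g, ∀ z ∈ lvl v d, cx v g * z ∈ lvl v (d + 1)) ∧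
      (∀ i g, (g = CVar.x2 ∨ g = CVar.x3) → cx v g * cx v (.xi i) ^ d ∈ lvl v d ⊔ pol v (d + 1)) := by
  intro d
  induction d with
  | zero =>
    refine ⟨fun g z hz => ?_, fun i g hg => ?_⟩
    · induction hz using Submodule.span_induction with
      | mem z hz =>
        obtain ⟨o, ho, rfl⟩ := hz
        rcases o with _ | (k | ⟨g', k⟩)
        · simpa [cmon] using pow_mem_lvl v g 1
        · exact absurd ho (by simp [cdeg])
        · exact absurd ho (by simp [cdeg])
      | zero => rw [mul_zero]; exact zero_mem _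
      | add y z _ _ hy hz => rw [mul_add]; exact add_mem hy hz
      | smul r z _ hz => rw [mul_smul_comm]; exact Submodule.smul_mem _ r hz
    · rw [pow_zero, mul_one]
      refine Submodule.mem_sup_right ?_
      rcases hg with rfl | rfl
      · exact Submodule.subset_span ⟨1, 0, le_rfl, by simp⟩
      · exact Submodule.subset_span ⟨0, 1, le_rfl, by simp⟩
  | succ d ih =>
    obtain ⟨hA, hB⟩ := ih
    have hle : lvl v d ⊔ pol v (d + 1) ≤ lvl v (d + 1) := sup_le (lvl_mono v d.le_succ) (pol_le v i₀ _)
    -- the product with `x₂ x₃`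
    have h23 : ∀ i, cx v (.xi i) ^ d * (cx v .x2 * cx v .x3) ∈ lvl v (d + 1) ⊔ pol v (d + 2) := by
      intro i
      rw [show cx v (.xi i) ^ d * (cx v .x2 * cx v .x3) = cx v .x2 * (cx v .x3 * cx v (.xi i) ^ d) by ring]
      obtain ⟨y, hy, z, hz, e⟩ := Submodule.mem_sup.1 (hB i .x3 (Or.inr rfl))
      rw [← e, mul_add]
      exact add_mem (Submodule.mem_sup_left (hA _ y hy)) (Submodule.mem_sup_right (x2_mul_pol v hz))
    have hlast : ∀ i g, (g = CVar.x2 ∨ g = CVar.x3) →
        cx v g * cx v (.xi i) ^ (d + 1) ∈ lvl v (d + 1) ⊔ pol v (d + 2) := by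
      intro i g hg
      have h1 : cx v (.xi i) ^ (d + 1) ∈ lvl v (d + 1) := pow_mem_lvl v _ _
      have h0 : cx v (.xi i) ^ d ∈ lvl v (d + 1) := lvl_mono v d.le_succ (pow_mem_lvl v _ _)
      rcases hg with rfl | rfl
      · rw [show cx v .x2 * cx v (.xi i) ^ (d + 1) = cx v (.xi i) ^ d * (cx v .x2 * cx v .x3) +
            (cc v (.ci i) * cx v (.xi i) ^ (d + 1) + cc v (.cbi i) * (cx v .x2 * cx v (.xi i) ^ d) -
              cc v .c * cx v (.xi i) ^ d) by linear_combination cx v (.xi i) ^ d * (pt_cx v).two i]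
        exact add_mem (h23 i) (Submodule.mem_sup_left (sub_mem (add_mem (scalar_mul_mem v _ h1)
          (scalar_mul_mem v _ (hle (hB i .x2 (Or.inl rfl))))) (scalar_mul_mem v _ h0)))
      · rw [show cx v .x3 * cx v (.xi i) ^ (d + 1) = cx v (.xi i) ^ d * (cx v .x2 * cx v .x3) +
            (algebraMap R _ (al v i) * cx v (.xi i) ^ (d + 1) +
              algebraMap R _ (v .cb - v .c - al v i * v (.cbi i)) * cx v (.xi i) ^ d) by
          have e3 := (pt_cx v).three i
          simp only [al, cc, map_sub, map_mul, map_add] at e3 ⊢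
          linear_combination cx v (.xi i) ^ d * e3]
        exact add_mem (h23 i) (Submodule.mem_sup_left (add_mem (scalar_mul_mem v _ h1) (scalar_mul_mem v _ h0)))
    refine ⟨fun g z hz => ?_, hlast⟩
    have hpol : ∀ l r, l + r ≤ d + 2 → cx v .x2 ^ l * cx v .x3 ^ r ∈ lvl v (d + 2) :=
      fun l r h => lvl_mono v h (x2x3_mem v i₀ r l)
    induction hz using Submodule.span_induction with
    | zero => rw [mul_zero]; exact zero_mem _
    | add y z _ _ hy hz => rw [mul_add]; exact add_mem hy hz
    | smul r z _ hz => rw [mul_smul_comm]; exact Submodule.smul_mem _ r hz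
    | mem z hz =>
      obtain ⟨o, ho, rfl⟩ := hz
      by_cases hod : cdeg o ≤ d
      · exact lvl_mono v (Nat.le_succ _) (hA g _ (cmon_mem v o hod))
      rcases o with _ | (k | ⟨g', k⟩)
      · exact absurd (Nat.zero_le d) hod
      · obtain rfl : k + 1 = d := by simp [cdeg] at ho hod; omega
        rw [cmon_inl]
        match g with
        | .x2 =>
          rw [show cx v .x2 * (cx v .x2 ^ (k + 1) * cx v .x3) = cx v .x2 ^ (k + 2) * cx v .x3 ^ 1 by ring]
          exact hpol _ _ (by omega)
        | .x3 =>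
          rw [show cx v .x3 * (cx v .x2 ^ (k + 1) * cx v .x3) = cx v .x2 ^ (k + 1) * cx v .x3 ^ 2 by ring]
          exact hpol _ _ (by omega)
        | .xi i =>
          rw [show cx v (.xi i) * (cx v .x2 ^ (k + 1) * cx v .x3) = cx v .x2 ^ (k + 1) * cx v .x3 ^ 2 +
              cc v (.ci i) * (cx v (.xi i) * (cx v .x2 ^ k * cx v .x3 ^ 1)) +
              cc v (.cbi i) * (cx v .x2 ^ (k + 1) * cx v .x3 ^ 1) -
              cc v .c * (cx v .x2 ^ k * cx v .x3 ^ 1) by
            linear_combination (cx v .x2 ^ k * cx v .x3) * (pt_cx v).two i]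
          exact sub_mem (add_mem (add_mem (hpol _ _ (by omega))
            (scalar_mul_mem v _ (lvl_mono v (Nat.le_succ _) (hA _ _ (x2x3_mem v i₀ 1 k)))))
            (scalar_mul_mem v _ (hpol _ _ (by omega)))) (scalar_mul_mem v _ (hpol _ _ (by omega)))
      · obtain rfl : d = k := by simp [cdeg] at ho hod; omega
        rw [cmon_inr]
        match g', g with
        | .x2, .x2 => rw [← pow_succ']; exact pow_mem_lvl v _ _
        | .x2, .x3 =>
          rw [show cx v .x3 * cx v .x2 ^ (d + 1) = cx v .x2 ^ (d + 1) * cx v .x3 ^ 1 by ring]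
          exact hpol _ _ (by omega)
        | .x3, .x2 =>
          rw [show cx v .x2 * cx v .x3 ^ (d + 1) = cx v .x2 ^ 1 * cx v .x3 ^ (d + 1) by ring]
          exact hpol _ _ (by omega)
        | .x3, .x3 => rw [← pow_succ']; exact pow_mem_lvl v _ _
        | .x2, .xi i =>
          rw [show cx v (.xi i) * cx v .x2 ^ (d + 1) = cx v .x2 ^ (d + 1) * cx v .x3 ^ 1 +
              cc v (.ci i) * (cx v (.xi i) * cx v .x2 ^ d) + cc v (.cbi i) * cx v .x2 ^ (d + 1) -
              cc v .c * cx v .x2 ^ d by linear_combination cx v .x2 ^ d * (pt_cx v).two i]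
          exact sub_mem (add_mem (add_mem (hpol _ _ (by omega))
            (scalar_mul_mem v _ (lvl_mono v (Nat.le_succ _) (hA _ _ (pow_mem_lvl v _ _)))))
            (scalar_mul_mem v _ (lvl_mono v (Nat.le_succ _) (pow_mem_lvl v _ _))))
            (scalar_mul_mem v _ (lvl_mono v (by omega) (pow_mem_lvl v _ _)))
        | .x3, .xi i =>
          rw [show cx v (.xi i) * cx v .x3 ^ (d + 1) = cx v .x2 ^ 1 * cx v .x3 ^ (d + 1) +
              (algebraMap R _ (al v i) * (cx v (.xi i) * cx v .x3 ^ d) +
                algebraMap R _ (v .cb - v .c - al v i * v (.cbi i)) * cx v .x3 ^ d) by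
            have e3 := (pt_cx v).three i
            simp only [al, cc, map_sub, map_mul, map_add] at e3 ⊢
            linear_combination cx v .x3 ^ d * e3]
          exact add_mem (hpol _ _ (by omega))
            (add_mem (scalar_mul_mem v _ (lvl_mono v (Nat.le_succ _) (hA _ _ (pow_mem_lvl v _ _))))
              (scalar_mul_mem v _ (lvl_mono v (by omega) (pow_mem_lvl v _ _))))
        | .xi j, .x2 => exact (sup_le (lvl_mono v (Nat.le_succ _)) (pol_le v i₀ _)) (hlast j _ (Or.inl rfl))
        | .xi j, .x3 => exact (sup_le (lvl_mono v (Nat.le_succ _)) (pol_le v i₀ _)) (hlast j _ (Or.inr rfl))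
        | .xi j, .xi i =>
          rcases eq_or_ne i j with rfl | hij
          · rw [← pow_succ']; exact pow_mem_lvl v _ _
          rw [show cx v (.xi i) * cx v (.xi j) ^ (d + 1) = cx v (.xi j) ^ d * (cx v .x2 * cx v .x3) +
              cc v (.cij i j hij) * cx v (.xi j) ^ (d + 1) +
              cc v (.cij j i hij.symm) * (cx v (.xi i) * cx v (.xi j) ^ d) - cc v .c * cx v (.xi j) ^ d by
            linear_combination cx v (.xi j) ^ d * (pt_cx v).pair i j hij]
          exact sub_mem (add_mem (add_mem ((sup_le (lvl_mono v (Nat.le_succ _)) (pol_le v i₀ _)) (h23 j))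
            (scalar_mul_mem v _ (lvl_mono v (Nat.le_succ _) (pow_mem_lvl v _ _))))
            (scalar_mul_mem v _ (lvl_mono v (Nat.le_succ _) (hA _ _ (pow_mem_lvl v _ _)))))
            (scalar_mul_mem v _ (lvl_mono v (by omega) (pow_mem_lvl v _ _)))

/-- The monomials span, for any values. -/
theorem span_cmon_eq_top (hm : 1 ≤ m) : Submodule.span R (Set.range (cmon R m v)) = ⊤ := by
  refine Submodule.eq_top_iff'.2 fun z => ?_
  suffices ∃ d, z ∈ lvl v d from this.elim fun d hd => Submodule.span_mono (Set.image_subset_range _ _) hd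
  obtain ⟨p, rfl⟩ := Ideal.Quotient.mk_surjective z
  induction p using MvPolynomial.induction_on with
  | C r =>
    refine ⟨0, ?_⟩
    have := scalar_mul_mem v r (cmon_mem v none (le_refl 0))
    rwa [show cmon R m v none = 1 from rfl, mul_one] at this
  | add p q hp hq =>
    obtain ⟨d, hd⟩ := hp
    obtain ⟨e, he⟩ := hq
    exact ⟨max d e, by rw [map_add]; exact add_mem (lvl_mono v (le_max_left _ _) hd) (lvl_mono v (le_max_right _ _) he)⟩
  | mul_X p g hp =>
    obtain ⟨d, hd⟩ := hp
    exact ⟨d + 1, by rw [map_mul, mul_comm]; exact (mul_mem_lvl v ⟨0, hm⟩ d).1 g _ hd⟩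

/-- Independence of the monomials forces the relations. -/
theorem rel_of_linearIndependent (h : LinearIndependent R (cmon R m v)) : Rel v := by
  classical
  have ext5 : ∀ (o : Fin 5 → Option (ℕ ⊕ (CVar m × ℕ))), Function.Injective o → ∀ r : Fin 5 → R,
      ∑ i, algebraMap R (CurveAlg R m v) (r i) * cmon R m v (o i) = 0 → ∀ i, r i = 0 := by
    intro o ho r hr
    refine Fintype.linearIndependent_iff.1 (h.comp o ho) r (Eq.trans (Finset.sum_congr rfl fun i _ => ?_) hr)
    exact Algebra.smul_def (r i) (cmon R m v (o i))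
  have pairs : ∀ i j (hij : i ≠ j),
      v (.cij i j hij) + v (.cij j i hij.symm) = v .a + v (.ci i) + v (.cbi i) + v (.ci j) + v (.cbi j) ∧
      v (.cij j i hij.symm) * v (.ci j) + v (.cij i j hij) * v (.ci i) - v (.ci i) * v (.ci j) = v .c ∧
      v (.cij j i hij.symm) * v (.cbi i) + v (.cij i j hij) * v (.cbi j) - v (.cbi i) * v (.cbi j) = v .cb := by
    intro i j hij
    let ΔL := v (.cij i j hij) + v (.cij j i hij.symm) - (v .a + v (.ci i) + v (.cbi i) + v (.ci j) + v (.cbi j))
    let Δ1 := v (.cij j i hij.symm) * v (.ci j) + v (.cij i j hij) * v (.ci i) - v (.ci i) * v (.ci j) - v .c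
    let Δ2 := v (.cij j i hij.symm) * v (.cbi i) + v (.cij i j hij) * v (.cbi j) - v (.cbi i) * v (.cbi j) - v .cb
    let e := dval v i + v .a * v .c + v (.cij i j hij) * v (.ci i) * v (.cbi j) +
      v (.cij j i hij.symm) * v (.ci j) * v (.cbi i) + v .c * ΔL
    have hP := ext5 ![some (Sum.inl 1), some (Sum.inl 0), some (Sum.inr (.x2, 1)), some (Sum.inr (.x2, 0)), none]
      (by intro p q hpq; fin_cases p <;> fin_cases q <;> simp_all)
      ![-ΔL, Δ1, -Δ2, e, -(v .c * Δ1)] (by
        simp only [Fin.sum_univ_five]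
        simp only [Matrix.cons_val, cmon_inl, cmon_inr, show cmon R m v none = 1 from rfl]
        have e2 := (pt_cx v).two i
        have e2' := (pt_cx v).two j
        have ep := (pt_cx v).pair i j hij
        have eF := plane_cubic_cx v i
        simp only [cc] at e2 e2' ep eF
        simp only [ΔL, Δ1, Δ2, e, map_add, map_sub, map_mul, map_neg]
        linear_combination
          ((cx v .x2 - algebraMap R _ (v (.ci i))) * (cx v .x2 - algebraMap R _ (v (.ci j)))) * ep -
          ((cx v .x2 - algebraMap R _ (v (.ci j))) * cx v (.xi j) -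
            algebraMap R _ (v (.cij j i hij.symm)) * (cx v .x2 - algebraMap R _ (v (.ci j)))) * e2 -
          (cx v .x2 * cx v .x3 + algebraMap R _ (v (.cbi i)) * cx v .x2 - algebraMap R _ (v .c) -
            algebraMap R _ (v (.cij i j hij)) * (cx v .x2 - algebraMap R _ (v (.ci i)))) * e2' -
          cx v .x2 * eF)
    refine ⟨?_, ?_, ?_⟩
    · have := hP 0; simp [ΔL] at this; linear_combination -this
    · have := hP 1; simp [Δ1] at this; linear_combination this
    · have := hP 2; simp [Δ2] at this; linear_combination -this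
  refine ⟨fun i j hij => (pairs i j hij).1, fun i j hij => (pairs i j hij).2.1, fun i j hij => (pairs i j hij).2.2,
    fun j k i hjk hki hji => ?_⟩
  have hij : i ≠ j := hji.symm
  have hik : i ≠ k := hki.symm
  let t := v (.cij j k hjk) * v (.cij k i hki) + v (.cij k j hjk.symm) * v (.cij j i hji) -
    v (.cij j i hji) * v (.cij k i hki) + al v i * v (.ci i) - v .c
  have hT := ext5 ![some (Sum.inr (.xi i, 1)), some (Sum.inl 0), none, some (Sum.inr (.xi i, 0)), some (Sum.inr (.x2, 0))]
    (by intro p q hpq; fin_cases p <;> fin_cases q <;> simp_all)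
    ![-t, t, -(v .c * t), (v .a + 2 * v (.cbi i) + 2 * v (.ci i)) * t, 0] (by
      simp only [Fin.sum_univ_five]
      simp only [Matrix.cons_val, cmon_inl, cmon_inr, show cmon R m v none = 1 from rfl, map_zero, zero_mul]
      have lij := congrArg (algebraMap R (CurveAlg R m v)) (pairs i j hij).1
      have lik := congrArg (algebraMap R (CurveAlg R m v)) (pairs i k hik).1
      have ljk := congrArg (algebraMap R (CurveAlg R m v)) (pairs j k hjk).1
      have q1ij := congrArg (algebraMap R (CurveAlg R m v)) (pairs i j hij).2.1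
      have q1ik := congrArg (algebraMap R (CurveAlg R m v)) (pairs i k hik).2.1
      have q1jk := congrArg (algebraMap R (CurveAlg R m v)) (pairs j k hjk).2.1
      have q2ij := congrArg (algebraMap R (CurveAlg R m v)) (pairs i j hij).2.2
      have q2ik := congrArg (algebraMap R (CurveAlg R m v)) (pairs i k hik).2.2
      have q2jk := congrArg (algebraMap R (CurveAlg R m v)) (pairs j k hjk).2.2
      have e2 := (pt_cx v).two i
      have e3 := (pt_cx v).three i
      have pij := (pt_cx v).pair i j hij
      have pik := (pt_cx v).pair i k hik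
      have pjk := (pt_cx v).pair j k hjk
      simp only [map_add, map_sub, map_mul] at lij lik ljk q1ij q1ik q1jk q2ij q2ik q2jk
      simp only [al, cc] at e2 e3 pij pik pjk
      simp only [t, al, map_add, map_sub, map_mul, map_neg, map_ofNat]
      generalize algebraMap R (CurveAlg R m v) (v (.cij j i hji)) = Cji at *
      generalize algebraMap R (CurveAlg R m v) (v (.cij k i hki)) = Cki at *
      generalize algebraMap R (CurveAlg R m v) (v (.cij k j hjk.symm)) = Ckj at *
      generalize algebraMap R (CurveAlg R m v) (v (.cij i j hij)) = Cij at *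
      generalize algebraMap R (CurveAlg R m v) (v (.cij i k hik)) = Cik at *
      generalize algebraMap R (CurveAlg R m v) (v (.cij j k hjk)) = Cjk at *
      generalize algebraMap R (CurveAlg R m v) (v .a) = a at *
      generalize algebraMap R (CurveAlg R m v) (v .c) = c at *
      generalize algebraMap R (CurveAlg R m v) (v .cb) = cb at *
      generalize algebraMap R (CurveAlg R m v) (v (.ci i)) = ci at *
      generalize algebraMap R (CurveAlg R m v) (v (.cbi i)) = bi at *
      generalize algebraMap R (CurveAlg R m v) (v (.ci j)) = cj at *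
      generalize algebraMap R (CurveAlg R m v) (v (.cbi j)) = bj at *
      generalize algebraMap R (CurveAlg R m v) (v (.ci k)) = ck at *
      generalize algebraMap R (CurveAlg R m v) (v (.cbi k)) = bk at *
      generalize cx v .x2 = x2 at *
      generalize cx v .x3 = x3 at *
      generalize cx v (.xi i) = x at *
      generalize cx v (.xi j) = xj at *
      generalize cx v (.xi k) = xk at *
      obtain rfl : Cji = a + ci + bi + cj + bj - Cij := by linear_combination lij
      obtain rfl : Cki = a + ci + bi + ck + bk - Cik := by linear_combination lik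
      obtain rfl : Ckj = a + cj + bj + ck + bk - Cjk := by linear_combination ljk
      linear_combination (x2 * x3 - c + ci * x) * e3 + (x3 * x) * e2 -
        (x2 * x3 - c) * (-q1ij - q1ik + q1jk + q2ij + q2ik - q2jk) -
        x * ((Cik - Cjk - a - 2 * bi + bj - 2 * ci) * q1ij +
          (Cij + Cjk - 2 * a - bi - bj - bk - 2 * ci - cj - ck) * q1ik +
          (-Cij - Cik + 2 * a + 2 * bi + bk + 2 * ci + cj + ck) * q1jk +
          (-Cik + Cjk + bi - bj + ci) * q2ij +
          (-Cij - Cjk + a + bi + bj + 2 * ci + cj) * q2ik +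
          (Cij + Cik - a - 2 * bi - 2 * ci - cj) * q2jk) +
        ((x - Cij) * (x - Cik)) * pjk -
        ((x - Cik) * xk - (a + cj + bj + ck + bk - Cjk) * (x - Cik)) * pij -
        (x2 * x3 + (a + ci + bi + cj + bj - Cij) * x - c - Cjk * (x - Cij)) * pik)
  have := hT 0
  simp [t] at this
  linear_combination -this

theorem rel_iff (v : UGen m → R) : Rel v ↔ ∀ p ∈ URel R m, eval v p = 0 := by
  constructor
  · rintro h p (((⟨⟨⟨i, j⟩, hij⟩, rfl⟩ | ⟨⟨⟨i, j⟩, hij⟩, rfl⟩) | ⟨⟨⟨i, j⟩, hij⟩, rfl⟩) | ⟨⟨⟨i, j, k⟩, hij, hjk, hik⟩, rfl⟩) <;>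
      simp only [map_sub, map_add, map_mul, eval_X]
    · linear_combination h.lin i j hij
    · linear_combination h.q1 i j hij
    · linear_combination h.q2 i j hij
    · linear_combination h.tri i j k hij hjk hik
  · intro h
    refine ⟨fun i j hij => ?_, fun i j hij => ?_, fun i j hij => ?_, fun i j k hij hjk hik => ?_⟩
    · have := h _ (Or.inl (Or.inl (Or.inl ⟨⟨(i, j), hij⟩, rfl⟩)))
      simp only [map_sub, map_add, eval_X] at this
      linear_combination this
    · have := h _ (Or.inl (Or.inl (Or.inr ⟨⟨(i, j), hij⟩, rfl⟩)))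
      simp only [map_sub, map_add, map_mul, eval_X] at this
      linear_combination this
    · have := h _ (Or.inl (Or.inr ⟨⟨(i, j), hij⟩, rfl⟩))
      simp only [map_sub, map_add, map_mul, eval_X] at this
      linear_combination this
    · have := h _ (Or.inr ⟨⟨(i, j, k), hij, hjk, hik⟩, rfl⟩)
      simp only [map_sub, map_add, map_mul, eval_X] at this
      linear_combination this

end Groth.UCurves
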