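import Groth.Agent.UCurves.Basis
import Groth.Prelude.Def_W4c5m1nsnscurvesI

/-! `U_{n+1}` as the universal curve over `U_n`. -/

set_option autoImplicit false
universe u

namespace Groth.UCurves

open W4c5m1nsnscurves MvPolynomial

variable (R : Type u) [CommRing R] (m : ℕ)

theorem mk_urel {p : MvPolynomial (UGen m) R} (hp : p ∈ URel R m) :
    Ideal.Quotient.mk (Ideal.span (URel R m)) p = 0 :=
  Ideal.Quotient.eq_zero_iff_mem.2 (Ideal.subset_span hp)

theorem rel_ugen : Rel (ugen R m) := by
  refine ⟨fun i j h => ?_, fun i j h => ?_, fun i j h => ?_, fun i j k hij hjk hik => ?_⟩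
  · have := mk_urel R m (Or.inl (Or.inl (Or.inl ⟨⟨(i, j), h⟩, rfl⟩)))
    simp only [map_sub, map_add] at this
    simp only [ugen]; linear_combination this
  · have := mk_urel R m (Or.inl (Or.inl (Or.inr ⟨⟨(i, j), h⟩, rfl⟩)))
    simp only [map_sub, map_add, map_mul] at this
    simp only [ugen]; linear_combination this
  · have := mk_urel R m (Or.inl (Or.inr ⟨⟨(i, j), h⟩, rfl⟩))
    simp only [map_sub, map_add, map_mul] at this
    simp only [ugen]; linear_combination this
  · have := mk_urel R m (Or.inr ⟨⟨(i, j, k), hij, hjk, hik⟩, rfl⟩)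
    simp only [map_sub, map_add, map_mul] at this
    simp only [al, ugen]; linear_combination this

theorem uincl_ugen (g : UGen m) : uincl R m (ugen R m g) = ugen R (m + 1) (UGen.castSucc g) := by
  show Ideal.Quotient.mkₐ R _ (rename UGen.castSucc (X g)) = _
  rw [rename_X]
  rfl

/-- The values of the coordinates of the curve in `U_{n+1}`. -/
noncomputable def newPt : CVar m → URing R (m + 1)
  | .x2 => ugen R (m + 1) (.ci (Fin.last m))
  | .x3 => ugen R (m + 1) .a + ugen R (m + 1) (.ci (Fin.last m)) + ugen R (m + 1) (.cbi (Fin.last m))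
  | .xi i => ugen R (m + 1) (.cij i.castSucc (Fin.last m) (Fin.castSucc_lt_last i).ne)

theorem pt_newPt : Pt (fun g => uincl R m (ugen R m g)) (newPt R m) := by
  have h := rel_ugen R (m + 1)
  refine ⟨fun i => ?_, fun i => ?_, fun i j hij => ?_⟩ <;>
    simp only [newPt, al, uincl_ugen, UGen.castSucc]
  · have hl := h.lin i.castSucc (Fin.last m) (Fin.castSucc_lt_last i).ne
    have h1 := h.q1 i.castSucc (Fin.last m) (Fin.castSucc_lt_last i).ne
    linear_combination ugen R (m + 1) (.ci (Fin.last m)) * hl - h1
  · have hl := h.lin i.castSucc (Fin.last m) (Fin.castSucc_lt_last i).ne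
    have h1 := h.q1 i.castSucc (Fin.last m) (Fin.castSucc_lt_last i).ne
    have h2 := h.q2 i.castSucc (Fin.last m) (Fin.castSucc_lt_last i).ne
    linear_combination h2 - h1 + (ugen R (m + 1) (.ci (Fin.last m)) - ugen R (m + 1) (.cbi i.castSucc)) * hl
  · have ht := h.tri i.castSucc j.castSucc (Fin.last m) (fun e => hij (Fin.castSucc_injective _ e))
      (Fin.castSucc_lt_last j).ne (Fin.castSucc_lt_last i).ne
    simp only [al] at ht
    linear_combination -ht

/-- The curve algebra over the universal point. -/
abbrev UCurve : Type u := CurveAlg (URing R m) m (ugen R m)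

/-- The generators of `U_{n+1}` on the curve. -/
noncomputable def newGen : UGen (m + 1) → UCurve R m
  | .a => cc (ugen R m) .a
  | .c => cc (ugen R m) .c
  | .cb => cc (ugen R m) .cb
  | .ci i => Fin.lastCases (cx (ugen R m) .x2) (fun j => cc (ugen R m) (.ci j)) i
  | .cbi i => Fin.lastCases (cx (ugen R m) .x3 - cx (ugen R m) .x2 - cc (ugen R m) .a)
      (fun j => cc (ugen R m) (.cbi j)) i
  | .cij i j _ => Fin.lastCases
      (Fin.lastCases 0 (fun l => cc (ugen R m) (.ci l) + cc (ugen R m) (.cbi l) + cx (ugen R m) .x3 -
        cx (ugen R m) (.xi l)) j)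
      (fun k => Fin.lastCases (cx (ugen R m) (.xi k))
        (fun l => if h : k ≠ l then cc (ugen R m) (.cij k l h) else 0) j) i

theorem rel_newGen : Rel (newGen R m) := by
  have h := rel_ugen R m
  have hp := pt_cx (ugen R m)
  have hb : ∀ i j (hij : i ≠ j), newGen R m (.cij (Fin.castSucc i) (Fin.castSucc j)
      (fun e => hij (Fin.castSucc_injective _ e))) = cc (ugen R m) (.cij i j hij) := fun i j hij => by
    simp [newGen, hij]
  refine ⟨fun i j hij => ?_, fun i j hij => ?_, fun i j hij => ?_, fun i j k hij hjk hik => ?_⟩
  · induction i using Fin.lastCases <;> induction j using Fin.lastCases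
    · exact absurd rfl hij
    · simp only [newGen, Fin.lastCases_last, Fin.lastCases_castSucc, cc]
      ring
    · simp only [newGen, Fin.lastCases_last, Fin.lastCases_castSucc, cc]
      ring
    · rename_i i j
      have hij' : i ≠ j := fun e => hij (e ▸ rfl)
      rw [hb i j hij', hb j i hij'.symm]
      simp only [newGen, Fin.lastCases_castSucc, cc, ← map_add, h.lin i j hij']
  · induction i using Fin.lastCases <;> induction j using Fin.lastCases
    · exact absurd rfl hij
    · rename_i j
      simp only [newGen, Fin.lastCases_last, Fin.lastCases_castSucc, cc]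
      linear_combination -hp.two j
    · rename_i i
      simp only [newGen, Fin.lastCases_last, Fin.lastCases_castSucc, cc]
      linear_combination -hp.two i
    · rename_i i j
      have hij' : i ≠ j := fun e => hij (e ▸ rfl)
      rw [hb i j hij', hb j i hij'.symm]
      simp only [newGen, Fin.lastCases_castSucc, cc, ← map_add, ← map_sub, ← map_mul, h.q1 i j hij']
  · induction i using Fin.lastCases <;> induction j using Fin.lastCases
    · exact absurd rfl hij
    · rename_i j
      have e3 := hp.three j
      simp only [al, cc] at e3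
      simp only [newGen, Fin.lastCases_last, Fin.lastCases_castSucc, cc]
      linear_combination e3 - hp.two j
    · rename_i i
      have e3 := hp.three i
      simp only [al, cc] at e3
      simp only [newGen, Fin.lastCases_last, Fin.lastCases_castSucc, cc]
      linear_combination e3 - hp.two i
    · rename_i i j
      have hij' : i ≠ j := fun e => hij (e ▸ rfl)
      rw [hb i j hij', hb j i hij'.symm]
      simp only [newGen, Fin.lastCases_castSucc, cc, ← map_add, ← map_sub, ← map_mul, h.q2 i j hij']
  · induction i using Fin.lastCases <;> induction j using Fin.lastCases <;> induction k using Fin.lastCases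
    all_goals first
      | exact absurd rfl hij
      | exact absurd rfl hjk
      | exact absurd rfl hik
      | skip
    · rename_i j k
      have hjk' : j ≠ k := fun e => hjk (e ▸ rfl)
      rw [hb j k hjk']
      have hl := congrArg (algebraMap (URing R m) (UCurve R m)) (h.lin j k hjk')
      have h1 := congrArg (algebraMap (URing R m) (UCurve R m)) (h.q1 j k hjk')
      have h2 := congrArg (algebraMap (URing R m) (UCurve R m)) (h.q2 j k hjk')
      have e3 := hp.three j
      have ep := hp.pair j k hjk'
      simp only [map_add, map_sub, map_mul] at hl h1 h2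
      simp only [al, cc] at e3 ep
      simp only [al, newGen, Fin.lastCases_last, Fin.lastCases_castSucc, cc]
      linear_combination e3 - ep + h1 - h2 +
        (algebraMap _ _ (ugen R m (.cbi j)) - algebraMap _ _ (ugen R m (.ci k)) - cx (ugen R m) (.xi j)) * hl
    · rename_i i k
      have hik' : i ≠ k := fun e => hik (e ▸ rfl)
      rw [hb i k hik']
      have hl := congrArg (algebraMap (URing R m) (UCurve R m)) (h.lin i k hik')
      have h1 := congrArg (algebraMap (URing R m) (UCurve R m)) (h.q1 i k hik')
      have h2 := congrArg (algebraMap (URing R m) (UCurve R m)) (h.q2 i k hik')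
      have e3 := hp.three i
      have ep := hp.pair i k hik'
      simp only [map_add, map_sub, map_mul] at hl h1 h2
      simp only [al, cc] at e3 ep
      simp only [al, newGen, Fin.lastCases_last, Fin.lastCases_castSucc, cc]
      linear_combination e3 - ep + h1 - h2 +
        (algebraMap _ _ (ugen R m (.cbi i)) - algebraMap _ _ (ugen R m (.ci k)) - cx (ugen R m) (.xi i)) * hl
    · rename_i i j
      have hij' : i ≠ j := fun e => hij (e ▸ rfl)
      rw [hb i j hij', hb j i hij'.symm]
      simp only [al, newGen, Fin.lastCases_last, Fin.lastCases_castSucc, cc]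
      linear_combination -(hp.pair i j hij')
    · rename_i i j k
      have hij' : i ≠ j := fun e => hij (e ▸ rfl)
      have hjk' : j ≠ k := fun e => hjk (e ▸ rfl)
      have hik' : i ≠ k := fun e => hik (e ▸ rfl)
      rw [hb i j hij', hb j i hij'.symm, hb i k hik', hb j k hjk']
      have ht := h.tri i j k hij' hjk' hik'
      simp only [al] at ht
      simp only [al, newGen, Fin.lastCases_castSucc, cc, ← map_add, ← map_sub, ← map_mul, ht]

/-- `U_{n+1}` is the curve over `U_n`. -/
theorem exists_equiv :
    ∃ e : UCurve R m ≃+* URing R (m + 1),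
      (∀ r : URing R m, e (algebraMap (URing R m) (UCurve R m) r) = uincl R m r) ∧
      ∀ g, e (cx (ugen R m) g) = newPt R m g := by
  have hp := pt_newPt R m
  let ψ₀ : MvPolynomial (CVar m) (URing R m) →+* URing R (m + 1) :=
    eval₂Hom (uincl R m).toRingHom (newPt R m)
  have hψ : ∀ p ∈ Ideal.span (CRel (URing R m) m (ugen R m)), ψ₀ p = 0 := by
    intro p hp'
    letI := (uincl R m).toRingHom.toAlgebra
    exact crel_le (S := URing R (m + 1)) hp p hp'
  let ψ : UCurve R m →+* URing R (m + 1) := Ideal.Quotient.lift _ ψ₀ hψ
  have hψc : ∀ r, ψ (algebraMap (URing R m) (UCurve R m) r) = uincl R m r := fun r => eval₂Hom_C _ _ r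
  have hψx : ∀ g, ψ (cx (ugen R m) g) = newPt R m g := fun g => eval₂Hom_X' _ _ g
  let φ₀ : MvPolynomial (UGen (m + 1)) R →+* UCurve R m :=
    eval₂Hom ((algebraMap (URing R m) (UCurve R m)).comp (algebraMap R (URing R m))) (newGen R m)
  have hφ : ∀ p ∈ Ideal.span (URel R (m + 1)), φ₀ p = 0 := by
    intro p hp'
    refine (Ideal.span_le (I := RingHom.ker φ₀)).2 ?_ hp'
    have hn := rel_newGen R m
    rintro q (((⟨⟨⟨i, j⟩, hij⟩, rfl⟩ | ⟨⟨⟨i, j⟩, hij⟩, rfl⟩) | ⟨⟨⟨i, j⟩, hij⟩, rfl⟩) | ⟨⟨⟨i, j, k⟩, hij, hjk, hik⟩, rfl⟩) <;>
      simp only [SetLike.mem_coe, RingHom.mem_ker, φ₀, map_sub, map_add, map_mul, eval₂Hom_X']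
    · linear_combination hn.lin i j hij
    · linear_combination hn.q1 i j hij
    · linear_combination hn.q2 i j hij
    · have ht := hn.tri i j k hij hjk hik
      simp only [al] at ht
      linear_combination ht
  let φ : URing R (m + 1) →+* UCurve R m := Ideal.Quotient.lift _ φ₀ hφ
  have hφg : ∀ g, φ (ugen R (m + 1) g) = newGen R m g := fun g => eval₂Hom_X' _ _ g
  have hφc : ∀ r, φ (algebraMap R (URing R (m + 1)) r) =
      algebraMap (URing R m) (UCurve R m) (algebraMap R (URing R m) r) := fun r => eval₂Hom_C _ _ r
  have hφu : φ.comp (uincl R m).toRingHom = algebraMap (URing R m) (UCurve R m) := by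
    refine Ideal.Quotient.ringHom_ext (MvPolynomial.ringHom_ext (fun r => ?_) fun g => ?_)
    · show φ (uincl R m (algebraMap R (URing R m) r)) = _
      rw [(uincl R m).commutes, hφc]
      rfl
    · show φ (uincl R m (ugen R m g)) = _
      rw [uincl_ugen, hφg]
      cases g with
      | cij i j h => simp [UGen.castSucc, newGen, h]; rfl
      | ci i => simp [UGen.castSucc, newGen]; rfl
      | cbi i => simp [UGen.castSucc, newGen]; rfl
      | a => rfl
      | c => rfl
      | cb => rfl
  have h1 : ψ.comp φ = RingHom.id _ := by
    refine Ideal.Quotient.ringHom_ext (MvPolynomial.ringHom_ext (fun r => ?_) fun g => ?_)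
    · show ψ (φ (algebraMap R (URing R (m + 1)) r)) = algebraMap R (URing R (m + 1)) r
      rw [hφc, hψc, (uincl R m).commutes]
    · show ψ (φ (ugen R (m + 1) g)) = ugen R (m + 1) g
      rw [hφg]
      have hr := rel_ugen R (m + 1)
      cases g with
      | a => exact (hψc _).trans (uincl_ugen R m _)
      | c => exact (hψc _).trans (uincl_ugen R m _)
      | cb => exact (hψc _).trans (uincl_ugen R m _)
      | ci i =>
        induction i using Fin.lastCases <;>
          simp only [newGen, Fin.lastCases_last, Fin.lastCases_castSucc, cc, hψc, hψx, newPt, uincl_ugen,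
            UGen.castSucc]
      | cbi i =>
        induction i using Fin.lastCases <;>
          simp only [newGen, Fin.lastCases_last, Fin.lastCases_castSucc, cc, map_sub, hψc, hψx, newPt, uincl_ugen,
            UGen.castSucc]
        ring
      | cij i j h =>
        induction i using Fin.lastCases <;> induction j using Fin.lastCases
        · exact absurd rfl h
        · rename_i l
          simp only [newGen, Fin.lastCases_last, Fin.lastCases_castSucc, cc, map_sub, map_add, hψc, hψx, newPt,
            uincl_ugen, UGen.castSucc]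
          linear_combination -hr.lin (Fin.last m) l.castSucc h
        · simp only [newGen, Fin.lastCases_last, Fin.lastCases_castSucc, hψx, newPt]
        · rename_i k l
          have hkl : k ≠ l := fun e => h (e ▸ rfl)
          simp only [newGen, Fin.lastCases_castSucc, dif_pos hkl, cc, hψc, uincl_ugen, UGen.castSucc]
  have h2 : φ.comp ψ = RingHom.id _ := by
    refine Ideal.Quotient.ringHom_ext (MvPolynomial.ringHom_ext (fun r => ?_) fun g => ?_)
    · show φ (ψ (algebraMap (URing R m) (UCurve R m) r)) = algebraMap (URing R m) (UCurve R m) r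
      rw [hψc]
      exact RingHom.congr_fun hφu r
    · show φ (ψ (cx (ugen R m) g)) = cx (ugen R m) g
      rw [hψx]
      cases g with
      | x2 => simp only [newPt, hφg, newGen, Fin.lastCases_last]
      | x3 =>
        simp only [newPt, map_add, hφg, newGen, Fin.lastCases_last]
        ring
      | xi i => simp only [newPt, hφg, newGen, Fin.lastCases_last, Fin.lastCases_castSucc]
  exact ⟨RingEquiv.ofRingHom ψ φ h1 h2, hψc, hψx⟩

end Groth.UCurves
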