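import Mathlib
import Groth.Agent.UCurves.Step

/-! The cotangent space of `U_n` at its origin. -/

set_option autoImplicit false
universe u

namespace Groth.UCurves

open W4c5m1nsnscurves MvPolynomial

variable (k : Type u) [Field k] (m : ℕ)

/-- The weight-one coordinates. -/
abbrev TCoord : Type := Option (Fin m ⊕ Fin m ⊕ {q : Fin m × Fin m // q.1 < q.2})

/-- The generator of a coordinate. -/
def tgen : TCoord m → UGen m
  | none => .a
  | some (.inl i) => .ci i
  | some (.inr (.inl i)) => .cbi i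
  | some (.inr (.inr q)) => .cij q.1.1 q.1.2 (ne_of_lt q.2)

/-- The differential of a generator at the origin. -/
noncomputable def tlin : UGen m → (TCoord m → k)
  | .a => Pi.single none 1
  | .c => 0
  | .cb => 0
  | .ci i => Pi.single (some (.inl i)) 1
  | .cbi i => Pi.single (some (.inr (.inl i))) 1
  | .cij i j h => if hl : i < j then Pi.single (some (.inr (.inr ⟨(i, j), hl⟩))) 1 else
      Pi.single none 1 + Pi.single (some (.inl i)) 1 + Pi.single (some (.inr (.inl i))) 1 +
        Pi.single (some (.inl j)) 1 + Pi.single (some (.inr (.inl j))) 1 -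
        Pi.single (some (.inr (.inr ⟨(j, i), lt_of_le_of_ne (not_lt.1 hl) h.symm⟩))) 1

theorem tlin_tgen (t : TCoord m) : tlin k m (tgen m t) = Pi.single t 1 := by
  rcases t with _ | i | i | q
  · rfl
  · rfl
  · rfl
  · simp [tgen, tlin, q.2]

theorem tlin_add (i j : Fin m) (h : i ≠ j) : tlin k m (.cij i j h) + tlin k m (.cij j i h.symm) =
    tlin k m .a + tlin k m (.ci i) + tlin k m (.cbi i) + tlin k m (.ci j) + tlin k m (.cbi j) := by
  rcases lt_or_gt_of_ne h with hl | hl
  · simp only [tlin, dif_pos hl, dif_neg hl.asymm]; abel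
  · simp only [tlin, dif_pos hl, dif_neg hl.asymm]; abel

/-- Evaluation in the dual numbers. -/
noncomputable def tev : URing k m →ₐ[k] TrivSqZeroExt k (TCoord m → k) :=
  Ideal.Quotient.liftₐ _ (aeval fun g => TrivSqZeroExt.inr (tlin k m g)) (by
    intro p hp
    refine (Ideal.span_le (I := RingHom.ker (aeval (R := k)
      fun g => (TrivSqZeroExt.inr (tlin k m g) : TrivSqZeroExt k (TCoord m → k))))).2 ?_ hp
    rintro q (((⟨⟨⟨i, j⟩, hij⟩, rfl⟩ | ⟨⟨⟨i, j⟩, hij⟩, rfl⟩) | ⟨⟨⟨i, j⟩, hij⟩, rfl⟩) | ⟨⟨⟨i, j, l⟩, hij, hjk, hik⟩, rfl⟩) <;>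
      simp only [SetLike.mem_coe, RingHom.mem_ker, map_sub, map_add, map_mul, aeval_X, add_mul,
        TrivSqZeroExt.inr_mul_inr, ← TrivSqZeroExt.inr_add, tlin_add k m _ _ hij]
    all_goals simp [tlin])

theorem tev_ugen (g : UGen m) : tev k m (ugen k m g) = TrivSqZeroExt.inr (tlin k m g) :=
  aeval_X _ _

theorem ugen_mem_origin (g : UGen m) : ugen k m g ∈ uorigin k m :=
  Ideal.subset_span ⟨g, rfl⟩

theorem fst_tev_origin {x : URing k m} (hx : x ∈ uorigin k m) : TrivSqZeroExt.fst (tev k m x) = 0 := by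
  refine (Ideal.span_le (I := RingHom.ker ((TrivSqZeroExt.fstHom k k (TCoord m → k)).comp (tev k m)))).2 ?_ hx
  rintro _ ⟨g, rfl⟩
  simp [RingHom.mem_ker, tev_ugen]

theorem sub_fst_tev_mem (x : URing k m) :
    x - algebraMap k (URing k m) (TrivSqZeroExt.fst (tev k m x)) ∈ uorigin k m := by
  obtain ⟨p, rfl⟩ := Ideal.Quotient.mk_surjective x
  induction p using MvPolynomial.induction_on with
  | C a =>
    rw [show Ideal.Quotient.mk (Ideal.span (URel k m)) (C a) = algebraMap k (URing k m) a from rfl,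
      AlgHom.commutes, TrivSqZeroExt.algebraMap_eq_inl, TrivSqZeroExt.fst_inl, sub_self]
    exact zero_mem _
  | add p q hp hq =>
    rw [map_add, map_add, TrivSqZeroExt.fst_add, map_add, add_sub_add_comm]
    exact add_mem hp hq
  | mul_X p g _ =>
    rw [map_mul, map_mul, TrivSqZeroExt.fst_mul,
      show Ideal.Quotient.mk (Ideal.span (URel k m)) (X g) = ugen k m g from rfl, tev_ugen,
      TrivSqZeroExt.fst_inr, mul_zero, map_zero, sub_zero]
    exact Ideal.mul_mem_left _ _ (ugen_mem_origin k m g)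

/-- The class of a coordinate in the cotangent space. -/
noncomputable def tcls (g : UGen m) : (uorigin k m).Cotangent :=
  (uorigin k m).toCotangent ⟨ugen k m g, ugen_mem_origin k m g⟩

/-- The comparison map. -/
noncomputable def tmap : (TCoord m → k) →ₗ[k] (uorigin k m).Cotangent :=
  (Pi.basisFun k (TCoord m)).constr k fun t => tcls k m (tgen m t)

theorem tmap_single (t : TCoord m) : tmap k m (Pi.single t 1) = tcls k m (tgen m t) := by
  classical
  rw [← Pi.basisFun_apply, tmap, Module.Basis.constr_basis]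

theorem tcls_of_mem_sq {g : UGen m} (h : ugen k m g ∈ uorigin k m ^ 2) : tcls k m g = 0 :=
  (Ideal.toCotangent_eq_zero _ _).2 h

theorem tcls_c (hm : 2 ≤ m) : tcls k m .c = 0 ∧ tcls k m .cb = 0 := by
  have h := rel_ugen k m
  have h01 : (⟨0, by omega⟩ : Fin m) ≠ ⟨1, by omega⟩ := by simp
  have hp : ∀ g g' : UGen m, ugen k m g * ugen k m g' ∈ uorigin k m ^ 2 := fun g g' => by
    rw [pow_two]
    exact Ideal.mul_mem_mul (ugen_mem_origin k m g) (ugen_mem_origin k m g')
  refine ⟨tcls_of_mem_sq k m ?_, tcls_of_mem_sq k m ?_⟩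
  · rw [← h.q1 _ _ h01]
    exact sub_mem (add_mem (hp _ _) (hp _ _)) (hp _ _)
  · rw [← h.q2 _ _ h01]
    exact sub_mem (add_mem (hp _ _) (hp _ _)) (hp _ _)

theorem tcls_add (i j : Fin m) (h : i ≠ j) : tcls k m (.cij i j h) + tcls k m (.cij j i h.symm) =
    tcls k m .a + tcls k m (.ci i) + tcls k m (.cbi i) + tcls k m (.ci j) + tcls k m (.cbi j) := by
  simp only [tcls, ← map_add]
  congr 1
  exact Subtype.ext ((rel_ugen k m).lin i j h)

theorem tmap_tlin (hm : 2 ≤ m) (g : UGen m) : tmap k m (tlin k m g) = tcls k m g := by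
  cases g with
  | a => exact tmap_single k m none
  | c => rw [(tcls_c k m hm).1]; exact map_zero _
  | cb => rw [(tcls_c k m hm).2]; exact map_zero _
  | ci i => exact tmap_single k m _
  | cbi i => exact tmap_single k m _
  | cij i j h =>
    by_cases hl : i < j
    · simp only [tlin, dif_pos hl, tmap_single]
      rfl
    · simp only [tlin, dif_neg hl, map_add, map_sub, tmap_single]
      rw [sub_eq_iff_eq_add]
      exact (tcls_add k m i j h).symm

theorem tmap_surjective (hm : 2 ≤ m) : Function.Surjective (tmap k m) := by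
  intro z
  obtain ⟨⟨x, hx⟩, rfl⟩ := Ideal.toCotangent_surjective _ z
  refine ⟨TrivSqZeroExt.snd (tev k m x), ?_⟩
  suffices ∀ h, tmap k m (TrivSqZeroExt.snd (tev k m x)) = (uorigin k m).toCotangent ⟨x, h⟩ from this hx
  induction hx using Submodule.span_induction with
  | mem y hy =>
    obtain ⟨g, rfl⟩ := hy
    intro h
    rw [tev_ugen, TrivSqZeroExt.snd_inr, tmap_tlin k m hm]
    rfl
  | zero =>
    intro h
    rw [map_zero, TrivSqZeroExt.snd_zero, map_zero]
    exact (map_zero (uorigin k m).toCotangent).symm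
  | add y y' hy hy' ih ih' =>
    intro h
    rw [map_add, TrivSqZeroExt.snd_add, map_add, ih hy, ih' hy', ← map_add]
    rfl
  | smul r y hy ih =>
    intro h
    have hz : (uorigin k m).toCotangent (⟨r • y, h⟩ : uorigin k m) =
        TrivSqZeroExt.fst (tev k m r) • (uorigin k m).toCotangent ⟨y, hy⟩ := by
      rw [← algebraMap_smul (URing k m) (TrivSqZeroExt.fst (tev k m r)), ← map_smul, Ideal.toCotangent_eq]
      show r * y - algebraMap k (URing k m) _ * y ∈ _
      rw [← sub_mul, pow_two]
      exact Ideal.mul_mem_mul (sub_fst_tev_mem k m r) hy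
    rw [hz, ← ih hy, ← map_smul, smul_eq_mul, map_mul, TrivSqZeroExt.snd_mul, fst_tev_origin k m hy]
    simp

/-- The differential at the origin. -/
noncomputable def tdiff : uorigin k m →ₗ[k] (TCoord m → k) where
  toFun x := TrivSqZeroExt.snd (tev k m (x : URing k m))
  map_add' x y := by simp
  map_smul' r x := by
    show TrivSqZeroExt.snd (tev k m (r • (x : URing k m))) = _
    simp

theorem tmap_injective : Function.Injective (tmap k m) := by
  classical
  rw [injective_iff_map_eq_zero]
  intro v hv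
  let y : uorigin k m := ∑ t, v t • (⟨ugen k m (tgen m t), ugen_mem_origin k m _⟩ : uorigin k m)
  have h1 : (uorigin k m).toCotangent y = tmap k m v := by
    conv_rhs => rw [← (Pi.basisFun k (TCoord m)).sum_repr v]
    simp only [y, map_sum, map_smul, LinearMap.map_smul_of_tower, Pi.basisFun_repr, Pi.basisFun_apply, tmap_single]
    rfl
  have h2 : tdiff k m y = v := by
    conv_rhs => rw [← (Pi.basisFun k (TCoord m)).sum_repr v]
    simp only [y, map_sum, map_smul, Pi.basisFun_repr, Pi.basisFun_apply]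
    refine Finset.sum_congr rfl fun t _ => ?_
    show v t • TrivSqZeroExt.snd (tev k m (ugen k m (tgen m t))) = _
    rw [tev_ugen, TrivSqZeroExt.snd_inr, tlin_tgen]
  have h3 : (y : URing k m) ∈ uorigin k m * uorigin k m := by
    have h4 := (Ideal.toCotangent_eq_zero _ _).1 (h1.trans hv)
    rw [pow_two] at h4
    exact h4
  rw [← h2]
  show TrivSqZeroExt.snd (tev k m (y : URing k m)) = 0
  refine Submodule.mul_induction_on h3 (fun a ha b hb => ?_) (fun a b ha hb => ?_)
  · rw [map_mul, TrivSqZeroExt.snd_mul, fst_tev_origin k m ha, fst_tev_origin k m hb]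
    simp
  · rw [map_add, TrivSqZeroExt.snd_add, ha, hb, add_zero]

theorem card_tcoord : Fintype.card (TCoord m) = (m + 2) * (m + 1) / 2 := by
  let e : {q : Fin m × Fin m // q.1 < q.2} ≃ Σ j : Fin m, Fin j.val :=
    { toFun := fun q => ⟨q.1.2, ⟨q.1.1.val, q.2⟩⟩
      invFun := fun s => ⟨(⟨s.2.val, s.2.isLt.trans s.1.isLt⟩, s.1), s.2.isLt⟩
      left_inv := fun q => rfl
      right_inv := fun s => rfl }
  rw [Fintype.card_option, Fintype.card_sum, Fintype.card_sum, Fintype.card_fin, Fintype.card_congr e,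
    Fintype.card_sigma]
  simp only [Fintype.card_fin]
  rw [Fin.sum_univ_eq_sum_range (fun i => i) m, Finset.sum_range_id]
  rcases m with _ | n
  · rfl
  · rw [Nat.add_sub_cancel]
    obtain ⟨c, hc⟩ := Nat.even_mul_succ_self n
    have h' : (n + 1) * n = 2 * c := by rw [mul_comm]; omega
    rw [h', Nat.mul_div_cancel_left c two_pos, show (n + 1 + 2) * (n + 1 + 1) = 2 * (c + 2 * n + 3) by ring_nf; nlinarith,
      Nat.mul_div_cancel_left _ two_pos]
    omega

theorem finrank_cotangent (hm : 2 ≤ m) :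
    Module.finrank k (uorigin k m).Cotangent = (m + 2) * (m + 1) / 2 := by
  rw [← (LinearEquiv.ofBijective (tmap k m) ⟨tmap_injective k m, tmap_surjective k m hm⟩).finrank_eq,
    Module.finrank_fintype_fun_eq_card, card_tcoord]

theorem adjoin_eq_top (hm : 2 ≤ m) (R : Type u) [CommRing R] :
    Algebra.adjoin R ({ugen R m .a} ∪ Set.range (fun i : Fin m => ugen R m (.ci i)) ∪
        Set.range (fun i : Fin m => ugen R m (.cbi i)) ∪
        Set.range (fun q : {q : Fin m × Fin m // q.1 < q.2} => ugen R m (.cij q.1.1 q.1.2 (ne_of_lt q.2)))) = ⊤ := by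
  set A := Algebra.adjoin R ({ugen R m .a} ∪ Set.range (fun i : Fin m => ugen R m (.ci i)) ∪
        Set.range (fun i : Fin m => ugen R m (.cbi i)) ∪
        Set.range (fun q : {q : Fin m × Fin m // q.1 < q.2} => ugen R m (.cij q.1.1 q.1.2 (ne_of_lt q.2)))) with hA
  have h := rel_ugen R m
  have ha : ugen R m .a ∈ A := Algebra.subset_adjoin (.inl (.inl (.inl rfl)))
  have hc : ∀ i, ugen R m (.ci i) ∈ A := fun i => Algebra.subset_adjoin (.inl (.inl (.inr ⟨i, rfl⟩)))
  have hb : ∀ i, ugen R m (.cbi i) ∈ A := fun i => Algebra.subset_adjoin (.inl (.inr ⟨i, rfl⟩))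
  have hij : ∀ i j h, ugen R m (.cij i j h) ∈ A := fun i j hne => by
    rcases lt_or_gt_of_ne hne with hl | hl
    · exact Algebra.subset_adjoin (.inr ⟨⟨(i, j), hl⟩, rfl⟩)
    · rw [eq_sub_of_add_eq (h.lin i j hne)]
      exact sub_mem (add_mem (add_mem (add_mem (add_mem ha (hc i)) (hb i)) (hc j)) (hb j))
        (Algebra.subset_adjoin (.inr ⟨⟨(j, i), hl⟩, rfl⟩))
  have h01 : (⟨0, by omega⟩ : Fin m) ≠ ⟨1, by omega⟩ := by simp
  have hall : ∀ g, ugen R m g ∈ A := by
    intro g
    cases g with
    | a => exact ha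
    | c =>
      rw [← h.q1 _ _ h01]
      exact sub_mem (add_mem (mul_mem (hij _ _ _) (hc _)) (mul_mem (hij _ _ _) (hc _))) (mul_mem (hc _) (hc _))
    | cb =>
      rw [← h.q2 _ _ h01]
      exact sub_mem (add_mem (mul_mem (hij _ _ _) (hb _)) (mul_mem (hij _ _ _) (hb _))) (mul_mem (hb _) (hb _))
    | ci i => exact hc i
    | cbi i => exact hb i
    | cij i j hne => exact hij i j hne
  rw [eq_top_iff]
  intro x _
  obtain ⟨p, rfl⟩ := Ideal.Quotient.mk_surjective x
  induction p using MvPolynomial.induction_on with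
  | C a => exact A.algebraMap_mem a
  | add p q hp hq => rw [map_add]; exact add_mem (hp trivial) (hq trivial)
  | mul_X p g hp => rw [map_mul]; exact mul_mem (hp trivial) (hall g)

end Groth.UCurves
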