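import Groth.Agent.UCurves.Step
import Groth.Agent.S18247

/-! A graded basis of the coordinate ring of `U_n`. -/

set_option autoImplicit false
universe u

namespace Groth.UCurves

open W4c5m1nsnscurves MvPolynomial

variable (R : Type u) [CommRing R] (m : ℕ)

theorem mem_upiece {d : ℕ} {z : URing R m} :
    z ∈ upiece R m d ↔ ∃ p : MvPolynomial (UGen m) R, IsWeightedHomogeneous uwt p d ∧
      Ideal.Quotient.mk (Ideal.span (URel R m)) p = z :=
  Submodule.mem_map

instance upieceGradedMonoid : SetLike.GradedMonoid (upiece R m) where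
  one_mem := (mem_upiece R m).2 ⟨1, isWeightedHomogeneous_one R uwt, map_one _⟩
  mul_mem _ _ x y hx hy := by
    obtain ⟨p, hp, rfl⟩ := (mem_upiece R m).1 hx
    obtain ⟨q, hq, rfl⟩ := (mem_upiece R m).1 hy
    exact (mem_upiece R m).2 ⟨p * q, hp.mul hq, map_mul _ _ _⟩

theorem ugen_mem (g : UGen m) : ugen R m g ∈ upiece R m (uwt g) :=
  (mem_upiece R m).2 ⟨X g, isWeightedHomogeneous_X R uwt g, rfl⟩

theorem rel_graded : Rel (fun g => (Polynomial.C (ugen R m g) * Polynomial.X ^ uwt g : Polynomial (URing R m))) := by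
  have h := rel_ugen R m
  refine ⟨fun i j hij => ?_, fun i j hij => ?_, fun i j hij => ?_, fun i j k hij hjk hik => ?_⟩ <;>
    simp only [al, uwt]
  · have := congrArg Polynomial.C (h.lin i j hij)
    simp only [map_add] at this
    linear_combination (Polynomial.X : Polynomial (URing R m)) * this
  · have := congrArg Polynomial.C (h.q1 i j hij)
    simp only [map_add, map_sub, map_mul] at this
    linear_combination (Polynomial.X : Polynomial (URing R m)) ^ 2 * this
  · have := congrArg Polynomial.C (h.q2 i j hij)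
    simp only [map_add, map_sub, map_mul] at this
    linear_combination (Polynomial.X : Polynomial (URing R m)) ^ 2 * this
  · have := congrArg Polynomial.C (h.tri i j k hij hjk hik)
    simp only [al, map_add, map_sub, map_mul] at this
    linear_combination (Polynomial.X : Polynomial (URing R m)) ^ 2 * this

theorem C_mul_X_pow_pow {S : Type*} [CommRing S] (a : S) (w e : ℕ) :
    (Polynomial.C a * Polynomial.X ^ w) ^ e = Polynomial.C (a ^ e) * Polynomial.X ^ (w * e) := by
  rw [mul_pow, ← map_pow, pow_mul]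

/-- The weight as an algebra map. -/
noncomputable def grad : URing R m →ₐ[R] Polynomial (URing R m) :=
  Ideal.Quotient.liftₐ _ (aeval fun g => Polynomial.C (ugen R m g) * Polynomial.X ^ uwt g) (by
    intro p hp
    refine (Ideal.span_le (I := RingHom.ker (aeval (R := R)
      fun g => (Polynomial.C (ugen R m g) * Polynomial.X ^ uwt g : Polynomial (URing R m))))).2 ?_ hp
    have hn := rel_graded R m
    rintro q (((⟨⟨⟨i, j⟩, hij⟩, rfl⟩ | ⟨⟨⟨i, j⟩, hij⟩, rfl⟩) | ⟨⟨⟨i, j⟩, hij⟩, rfl⟩) | ⟨⟨⟨i, j, k⟩, hij, hjk, hik⟩, rfl⟩) <;>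
      simp only [SetLike.mem_coe, RingHom.mem_ker, map_sub, map_add, map_mul, aeval_X]
    · linear_combination hn.lin i j hij
    · linear_combination hn.q1 i j hij
    · linear_combination hn.q2 i j hij
    · have ht := hn.tri i j k hij hjk hik
      simp only [al] at ht
      linear_combination ht)

theorem grad_of_mem {d : ℕ} {z : URing R m} (hz : z ∈ upiece R m d) :
    grad R m z = Polynomial.C z * Polynomial.X ^ d := by
  classical
  obtain ⟨p, hp, rfl⟩ := (mem_upiece R m).1 hz
  show aeval (fun g => Polynomial.C (ugen R m g) * Polynomial.X ^ uwt g) p = _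
  conv_rhs => rw [p.as_sum]
  conv_lhs => rw [p.as_sum]
  simp only [map_sum, Finset.sum_mul]
  refine Finset.sum_congr rfl fun e he => ?_
  rw [aeval_monomial, monomial_eq, map_mul]
  simp only [Finsupp.prod, map_prod, map_pow]
  have hw : ∑ g ∈ e.support, uwt g * e g = d := by
    rw [← hp (mem_support_iff.1 he), Finsupp.weight_apply, Finsupp.sum]
    exact Finset.sum_congr rfl fun g _ => by rw [smul_eq_mul, mul_comm]
  rw [map_mul, map_prod, Finset.prod_congr rfl (fun g _ =>
    (C_mul_X_pow_pow (ugen R m g) (uwt g) (e g)))]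
  rw [Finset.prod_mul_distrib, Finset.prod_pow_eq_pow_sum, hw]
  exact (mul_assoc _ _ _).symm

/-- The component of weight `d`. -/
noncomputable def comp (d : ℕ) : URing R m →ₗ[R] URing R m :=
  ((Polynomial.lcoeff (URing R m) d).restrictScalars R).comp (grad R m).toLinearMap

theorem comp_of_mem {d e : ℕ} {z : URing R m} (hz : z ∈ upiece R m e) :
    comp R m d z = if d = e then z else 0 := by
  show Polynomial.coeff (grad R m z) d = _
  rw [grad_of_mem R m hz, Polynomial.coeff_C_mul_X_pow]

theorem isInternal_upiece (htop : ⨆ d, upiece R m d = ⊤) : DirectSum.IsInternal (upiece R m) := by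
  rw [DirectSum.isInternal_submodule_iff_iSupIndep_and_iSup_eq_top]
  refine ⟨fun d => ?_, htop⟩
  rw [Submodule.disjoint_def]
  intro z hz hz'
  have h0 : (⨆ (e) (_ : e ≠ d), upiece R m e) ≤ LinearMap.ker (comp R m d) := by
    refine iSup₂_le fun e he x hx => ?_
    rw [LinearMap.mem_ker, comp_of_mem R m hx, if_neg he.symm]
  have h1 := h0 hz'
  rwa [LinearMap.mem_ker, comp_of_mem R m hz, if_pos rfl] at h1

/-- The number of monomials of the curve of given degree. -/
def ccount : ℕ → ℕ
  | 0 => 1
  | 1 => m + 2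
  | _ + 2 => m + 3

instance : Finite (CVar m) :=
  Finite.of_equiv (Option (Option (Fin m)))
    { toFun := fun o => match o with
        | none => .x2
        | some none => .x3
        | some (some i) => .xi i
      invFun := fun g => match g with
        | .x2 => none
        | .x3 => some none
        | .xi i => some (some i)
      left_inv := fun o => by rcases o with _ | _ | i <;> rfl
      right_inv := fun g => by cases g <;> rfl }

theorem card_cvar : Nat.card (CVar m) = m + 2 := by
  rw [← Nat.card_congr (α := Option (Option (Fin m)))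
    { toFun := fun o => match o with
        | none => CVar.x2
        | some none => .x3
        | some (some i) => .xi i
      invFun := fun g => match g with
        | .x2 => none
        | .x3 => some none
        | .xi i => some (some i)
      left_inv := fun o => by rcases o with _ | _ | i <;> rfl
      right_inv := fun g => by cases g <;> rfl }]
  simp

theorem card_cdeg (e : ℕ) :
    Finite {o : Option (ℕ ⊕ (CVar m × ℕ)) // cdeg o = e} ∧
      Nat.card {o : Option (ℕ ⊕ (CVar m × ℕ)) // cdeg o = e} = ccount m e := by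
  rcases e with _ | _ | e
  · let E : PUnit.{1} ≃ {o : Option (ℕ ⊕ (CVar m × ℕ)) // cdeg o = 0} :=
      { toFun := fun _ => ⟨none, rfl⟩
        invFun := fun _ => PUnit.unit
        left_inv := fun _ => rfl
        right_inv := by rintro ⟨_ | (k | ⟨g, k⟩), h⟩ <;> first | rfl | (simp [cdeg] at h ⊢ <;> omega) }
    exact ⟨Finite.of_equiv _ E, by rw [← Nat.card_congr E]; simp [ccount]⟩
  · let E : CVar m ≃ {o : Option (ℕ ⊕ (CVar m × ℕ)) // cdeg o = 1} :=
      { toFun := fun g => ⟨some (Sum.inr (g, 0)), rfl⟩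
        invFun := fun o => match o with
          | ⟨none, _⟩ => .x2
          | ⟨some (Sum.inl _), _⟩ => .x2
          | ⟨some (Sum.inr (g, _)), _⟩ => g
        left_inv := fun _ => rfl
        right_inv := by rintro ⟨_ | (k | ⟨g, k⟩), h⟩ <;> first | rfl | (simp [cdeg] at h ⊢ <;> omega) }
    exact ⟨Finite.of_equiv _ E, by rw [← Nat.card_congr E, card_cvar]; rfl⟩
  · let E : Option (CVar m) ≃ {o : Option (ℕ ⊕ (CVar m × ℕ)) // cdeg o = e + 2} :=
      { toFun := fun g => match g with
          | none => ⟨some (Sum.inl e), rfl⟩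
          | some g => ⟨some (Sum.inr (g, e + 1)), rfl⟩
        invFun := fun o => match o with
          | ⟨none, _⟩ => none
          | ⟨some (Sum.inl _), _⟩ => none
          | ⟨some (Sum.inr (g, _)), _⟩ => some g
        left_inv := fun g => by cases g <;> rfl
        right_inv := by rintro ⟨_ | (k | ⟨g, k⟩), h⟩ <;> first | rfl | (simp [cdeg] at h ⊢ <;> omega) }
    refine ⟨Finite.of_equiv _ E, ?_⟩
    rw [← Nat.card_congr E]
    simp [Finite.card_option, card_cvar, ccount]

theorem uhilb_succ (hm : 2 ≤ m) :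
    uhilb (m + 1) = uhilb m * PowerSeries.mk fun e => (ccount m e : ℤ) := by
  have hI : Finset.Icc 3 (m + 1) = insert (m + 1) (Finset.Icc 3 m) := by
    ext x
    simp only [Finset.mem_insert, Finset.mem_Icc]
    omega
  have key : (PowerSeries.mk fun e => (ccount m e : ℤ)) = (PowerSeries.mk fun _ => (1 : ℤ)) *
      (1 + PowerSeries.C ((m + 1 : ℕ) : ℤ) * PowerSeries.X + PowerSeries.X ^ 2) := by
    ext e
    rw [mul_add, mul_add, mul_one, map_add, map_add, mul_left_comm, PowerSeries.coeff_C_mul,
      PowerSeries.coeff_mk, PowerSeries.coeff_mk, PowerSeries.coeff_mul_X_pow']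
    rcases e with _ | _ | e
    · simp [ccount]
    · rw [PowerSeries.coeff_succ_mul_X]; simp [ccount]; ring
    · rw [PowerSeries.coeff_succ_mul_X]; simp [ccount]; ring
  rw [uhilb, uhilb, key, hI, Finset.prod_insert (by simp)]
  push_cast
  ring

theorem uincl_mem {d : ℕ} {z : URing R m} (hz : z ∈ upiece R m d) : uincl R m z ∈ upiece R (m + 1) d := by
  classical
  obtain ⟨p, hp, rfl⟩ := (mem_upiece R m).1 hz
  refine (mem_upiece R (m + 1)).2 ⟨rename UGen.castSucc p, ?_, rfl⟩
  intro e he
  obtain ⟨e₀, rfl, he₀⟩ := coeff_rename_ne_zero _ _ _ he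
  rw [← hp he₀, Finsupp.weight_apply, Finsupp.weight_apply,
    Finsupp.sum_mapDomain_index (by simp) (by intros; simp [add_mul])]
  refine Finset.sum_congr rfl fun g _ => ?_
  cases g <;> rfl

theorem newPt_mem (g : CVar m) : newPt R m g ∈ upiece R (m + 1) 1 := by
  cases g with
  | x2 => exact ugen_mem R (m + 1) (.ci _)
  | x3 => exact add_mem (add_mem (ugen_mem R (m + 1) .a) (ugen_mem R (m + 1) (.ci _))) (ugen_mem R (m + 1) (.cbi _))
  | xi i => exact ugen_mem R (m + 1) (.cij _ _ _)

theorem exists_graded_basis : ∀ m, 2 ≤ m → ∃ (ι : Type) (b : Module.Basis ι ℤ (URing ℤ m)) (w : ι → ℕ),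
    (∀ i, b i ∈ upiece ℤ m (w i)) ∧ (∀ d, Finite {i // w i = d}) ∧
      ∀ d, (Nat.card {i // w i = d} : ℤ) = PowerSeries.coeff d (uhilb m) := by
  intro m hm
  induction m, hm using Nat.le_induction with
  | base =>
    classical
    let φ := AlgEquiv.ofBijective _ Groth.Agent.S18247.result
    refine ⟨Fin 6 →₀ ℕ, (basisMonomials (Fin 6) ℤ).map φ.toLinearEquiv, fun e => e.degree, fun e => ?_, ?_⟩
    · have he : (basisMonomials (Fin 6) ℤ).map φ.toLinearEquiv e = φ (monomial e 1) := by simp
      rw [he]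
      show aeval _ (monomial e (1 : ℤ)) ∈ _
      show aeval _ (monomial e (1 : ℤ)) ∈ upiece ℤ 2 (Finsupp.degree e)
      rw [aeval_monomial, map_one, one_mul, Finsupp.prod, Finsupp.degree_apply]
      refine SetLike.prod_mem_graded _ _ _ fun i _ => ?_
      have h1 : ∀ i : Fin 6, ![ugen ℤ 2 .a, ugen ℤ 2 (.ci 0), ugen ℤ 2 (.cbi 0), ugen ℤ 2 (.ci 1), ugen ℤ 2 (.cbi 1),
          ugen ℤ 2 (.cij 0 1 Fin.zero_ne_one)] i ∈ upiece ℤ 2 1 := by
        intro i
        fin_cases i
        · exact ugen_mem ℤ 2 .a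
        · exact ugen_mem ℤ 2 (.ci 0)
        · exact ugen_mem ℤ 2 (.cbi 0)
        · exact ugen_mem ℤ 2 (.ci 1)
        · exact ugen_mem ℤ 2 (.cbi 1)
        · exact ugen_mem ℤ 2 (.cij 0 1 Fin.zero_ne_one)
      have := SetLike.pow_mem_graded (e i) (h1 i)
      rwa [smul_eq_mul, mul_one] at this
    · have E : ∀ d : ℕ, Sym (Fin 6) d ≃ {e : Fin 6 →₀ ℕ // e.degree = d} := fun d =>
        (Sym.equivNatSum _ d).trans (Equiv.subtypeEquivRight fun P => by
          simp [Finsupp.sum, Finsupp.degree_apply])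
      refine ⟨fun d => Finite.of_equiv _ (E d), fun d => ?_⟩
      rw [← Nat.card_congr (E d), Nat.card_eq_fintype_card, Sym.card_sym_eq_choose, Fintype.card_fin, uhilb,
        Finset.Icc_eq_empty (by norm_num), Finset.prod_empty, mul_one,
        show (fun _ : ℕ => (1 : ℤ)) = (1 : ℕ → ℤ) from rfl, PowerSeries.mk_one_pow_eq_mk_choose_add,
        PowerSeries.coeff_mk, show 6 + d - 1 = 5 + d by omega, Nat.choose_symm_add]
  | succ m hm ih =>
    obtain ⟨ι, b, w, hb, hfin, hcard⟩ := ih
    obtain ⟨e, he, hex⟩ := exists_equiv ℤ m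
    let bc : Module.Basis (Option (ℕ ⊕ (CVar m × ℕ))) (URing ℤ m) (UCurve ℤ m) :=
      Module.Basis.mk (linearIndependent_cmon (rel_ugen ℤ m) (by omega))
        (span_cmon_eq_top (ugen ℤ m) (by omega)).ge
    refine ⟨ι × Option (ℕ ⊕ (CVar m × ℕ)), (b.smulTower bc).map e.toAddEquiv.toIntLinearEquiv,
      fun p => w p.1 + cdeg p.2, ?_, ?_⟩
    · rintro ⟨i, o⟩
      have hval : (b.smulTower bc).map e.toAddEquiv.toIntLinearEquiv (i, o) =
          uincl ℤ m (b i) * e (cmon (URing ℤ m) m (ugen ℤ m) o) := by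
        rw [Module.Basis.map_apply, Module.Basis.smulTower_apply, Module.Basis.mk_apply]
        show e (b i • cmon (URing ℤ m) m (ugen ℤ m) o) = _
        rw [Algebra.smul_def (b i) (cmon (URing ℤ m) m (ugen ℤ m) o), map_mul, he]
      rw [hval]
      refine SetLike.mul_mem_graded (uincl_mem ℤ m (hb i)) ?_
      rcases o with _ | (k | ⟨g, k⟩)
      · rw [show cmon (URing ℤ m) m (ugen ℤ m) none = 1 from rfl, map_one]
        exact SetLike.one_mem_graded (upiece ℤ (m + 1))
      · rw [cmon_inl, map_mul, map_pow, hex, hex]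
        have h := SetLike.mul_mem_graded (SetLike.pow_mem_graded (k + 1) (newPt_mem ℤ m .x2)) (newPt_mem ℤ m .x3)
        simpa [cdeg, add_assoc] using h
      · rw [cmon_inr, map_pow, hex]
        simpa [cdeg] using SetLike.pow_mem_graded (k + 1) (newPt_mem ℤ m g)
    · have E : ∀ d : ℕ, {p : ι × Option (ℕ ⊕ (CVar m × ℕ)) // w p.1 + cdeg p.2 = d} ≃
          Σ q : {q : ℕ × ℕ // q ∈ Finset.HasAntidiagonal.antidiagonal d},
            {i : ι // w i = q.1.1} × {o : Option (ℕ ⊕ (CVar m × ℕ)) // cdeg o = q.1.2} := fun d =>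
        { toFun := fun p => ⟨⟨(w p.1.1, cdeg p.1.2), Finset.HasAntidiagonal.mem_antidiagonal.2 p.2⟩, ⟨p.1.1, rfl⟩, ⟨p.1.2, rfl⟩⟩
          invFun := fun s => ⟨(s.2.1.1, s.2.2.1), by
            show w s.2.1.1 + cdeg s.2.2.1 = d
            rw [s.2.1.2, s.2.2.2]
            exact Finset.HasAntidiagonal.mem_antidiagonal.1 s.1.2⟩
          left_inv := fun p => rfl
          right_inv := by
            rintro ⟨⟨⟨a, c⟩, h⟩, ⟨i, hi⟩, ⟨o, ho⟩⟩
            dsimp only at hi ho
            subst hi ho
            rfl }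
      haveI := hfin
      haveI : ∀ c, Finite {o : Option (ℕ ⊕ (CVar m × ℕ)) // cdeg o = c} := fun c => (card_cdeg m c).1
      refine ⟨fun d => Finite.of_equiv _ (E d).symm, fun d => ?_⟩
      rw [Nat.card_congr (E d), Nat.card_sigma, uhilb_succ m hm, PowerSeries.coeff_mul]
      push_cast
      rw [← Finset.sum_attach (Finset.HasAntidiagonal.antidiagonal d)]
      refine Finset.sum_congr rfl fun q _ => ?_
      rw [Nat.card_prod, Nat.cast_mul, hcard, (card_cdeg m q.1.2).2, PowerSeries.coeff_mk]

theorem upiece_eq_span {ι : Type} (b : Module.Basis ι ℤ (URing ℤ m)) (w : ι → ℕ)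
    (hb : ∀ i, b i ∈ upiece ℤ m (w i)) (d : ℕ) :
    upiece ℤ m d = Submodule.span ℤ (Set.range fun i : {i // w i = d} => b i.1) := by
  classical
  refine le_antisymm (fun z hz => ?_) (Submodule.span_le.2 ?_)
  · have h := comp_of_mem ℤ m (d := d) hz
    rw [if_pos rfl] at h
    rw [← h, ← b.linearCombination_repr z, Finsupp.linearCombination_apply, Finsupp.sum, map_sum]
    refine Submodule.sum_mem _ fun i _ => ?_
    rw [map_smul, comp_of_mem ℤ m (hb i)]
    refine Submodule.smul_mem _ _ ?_
    split_ifs with hd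
    · exact Submodule.subset_span ⟨⟨i, hd.symm⟩, rfl⟩
    · exact zero_mem _
  · rintro _ ⟨⟨i, hi⟩, rfl⟩
    subst hi
    exact hb i

theorem finrank_upiece {ι : Type} (b : Module.Basis ι ℤ (URing ℤ m)) (w : ι → ℕ)
    (hb : ∀ i, b i ∈ upiece ℤ m (w i)) (d : ℕ) [Finite {i // w i = d}] :
    Module.finrank ℤ (upiece ℤ m d) = Nat.card {i // w i = d} := by
  classical
  haveI := Fintype.ofFinite {i // w i = d}
  rw [upiece_eq_span m b w hb d]
  exact (finrank_span_eq_card (b.linearIndependent.comp (fun i : {i // w i = d} => i.1) Subtype.val_injective)).trans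
    Nat.card_eq_fintype_card.symm

end Groth.UCurves
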