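import Groth.Prelude.Def_W4c5m1nsnscurvesC
import Mathlib.Tactic.LinearCombination
import Mathlib.Tactic.Ring

/-! Identities behind the curve algebras of the spaces `U_n`. -/

set_option autoImplicit false
universe u

namespace Groth.UCurves

open W4c5m1nsnscurves

variable {S : Type u} [CommRing S] {m : ℕ}

/-- The slope `a + cᵢ + c̄ᵢ`. -/
abbrev al (w : UGen m → S) (i : Fin m) : S := w .a + w (.ci i) + w (.cbi i)

/-- The constant of the plane cubic cut out by the pair `(2, 3)`, computed from the index `i`. -/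
def dval (w : UGen m → S) (i : Fin m) : S :=
  w (.ci i) * w (.cbi i) * al w i - w (.ci i) * w .cb - w .c * (w .a + w (.cbi i))

/-- The relations of `U_n` for an assignment of values. -/
structure Rel (w : UGen m → S) : Prop where
  lin : ∀ i j (h : i ≠ j), w (.cij i j h) + w (.cij j i h.symm) =
    w .a + w (.ci i) + w (.cbi i) + w (.ci j) + w (.cbi j)
  q1 : ∀ i j (h : i ≠ j), w (.cij j i h.symm) * w (.ci j) + w (.cij i j h) * w (.ci i) -
    w (.ci i) * w (.ci j) = w .c
  q2 : ∀ i j (h : i ≠ j), w (.cij j i h.symm) * w (.cbi i) + w (.cij i j h) * w (.cbi j) -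
    w (.cbi i) * w (.cbi j) = w .cb
  tri : ∀ i j k (hij : i ≠ j) (hjk : j ≠ k) (hik : i ≠ k),
    w (.cij i j hij) * w (.cij j k hjk) + w (.cij j i hij.symm) * w (.cij i k hik) -
      w (.cij i k hik) * w (.cij j k hjk) + al w k * w (.ci k) = w .c

/-- A point of the curve over the assignment `w`. -/
structure Pt (w : UGen m → S) (x : CVar m → S) : Prop where
  two : ∀ i, x .x2 * x (.xi i) = x .x2 * x .x3 + w (.ci i) * x (.xi i) + w (.cbi i) * x .x2 - w .c
  three : ∀ i, x .x3 * x (.xi i) = x .x2 * x .x3 + al w i * (x (.xi i) - w (.cbi i)) + w .cb - w .c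
  pair : ∀ i j (h : i ≠ j), x (.xi i) * x (.xi j) =
    x .x2 * x .x3 + w (.cij i j h) * x (.xi j) + w (.cij j i h.symm) * x (.xi i) - w .c

theorem Rel.dval_eq {w : UGen m → S} (hw : Rel w) (i j : Fin m) : dval w i = dval w j := by
  rcases eq_or_ne i j with rfl | h
  · rfl
  have hl := hw.lin i j h
  have h1 := hw.q1 i j h
  have h2 := hw.q2 i j h
  simp only [dval, al]
  linear_combination (w (.cbi i) - w (.cbi j)) * h1 + (w (.ci i) - w (.ci j)) * h2 +
    (w (.ci j) * w (.cbi j) - w (.ci i) * w (.cbi i)) * hl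

/-- The plane cubic satisfied by `x₂, x₃`. -/
theorem plane_cubic {a c cb ci bi x2 x3 x : S}
    (e2 : x2 * x = x2 * x3 + ci * x + bi * x2 - c)
    (e3 : x3 * x = x2 * x3 + (a + ci + bi) * (x - bi) + cb - c) :
    x2 * x3 ^ 2 - x2 ^ 2 * x3 = a * x2 * x3 + (cb - c) * x2 + c * x3 +
      (ci * bi * (a + ci + bi) - ci * cb - c * (a + bi)) := by
  linear_combination (x2 - ci) * e3 - (x3 - (a + ci + bi)) * e2

/-- The product of the values of two coordinates. -/
theorem pair_key {a c cb ci bi cj bj Cij Cji x2 x3 : S}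
    (hl : Cij + Cji = a + ci + bi + cj + bj)
    (h1 : Cji * cj + Cij * ci - ci * cj = c) (h2 : Cji * bi + Cij * bj - bi * bj = cb)
    (hF : x2 * x3 ^ 2 - x2 ^ 2 * x3 = a * x2 * x3 + (cb - c) * x2 + c * x3 +
      (ci * bi * (a + ci + bi) - ci * cb - c * (a + bi))) :
    (x2 * x3 + bi * x2 - c) * (x2 * x3 + bj * x2 - c) =
      (x2 - ci) * (x2 - cj) * (x2 * x3 - c) + Cij * (x2 - ci) * (x2 * x3 + bj * x2 - c) +
        Cji * (x2 - cj) * (x2 * x3 + bi * x2 - c) := by
  linear_combination x2 * hF + (x2 * x3 + bi * x2 - c) * h1 + (ci * x2 - x2 ^ 2) * h2 +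
    (-(x2 ^ 2 * x3) + c * x2 - ci * bi * x2) * hl

/-- The value of the third coordinate along the branch of `x`. -/
theorem x2_key {a c cb ci bi cj bj Cij Cji x2 x3 x : S}
    (hl : Cij + Cji = a + ci + bi + cj + bj)
    (h1 : Cji * cj + Cij * ci - ci * cj = c) (h2 : Cji * bi + Cij * bj - bi * bj = cb)
    (e2 : x2 * x = x2 * x3 + ci * x + bi * x2 - c)
    (e3 : x3 * x = x2 * x3 + (a + ci + bi) * (x - bi) + cb - c) :
    (x2 - cj) * (x2 * x3 + Cji * x - c) = (x2 * x3 + bj * x2 - c) * (x - Cij) := by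
  linear_combination (-x2) * e3 + (Cji - bj - (a + ci + bi)) * e2 + x2 * h2 - x * h1 +
    (x2 * x3 + ci * x - c) * hl

/-- Two coordinates along the branch of a third. -/
theorem tri_key {a c cb ci bi cj bj ck bk Cij Cji Cik Cki Cjk Ckj x2 x3 x : S}
    (lij : Cij + Cji = a + ci + bi + cj + bj) (lik : Cik + Cki = a + ci + bi + ck + bk)
    (ljk : Cjk + Ckj = a + cj + bj + ck + bk)
    (q1ij : Cji * cj + Cij * ci - ci * cj = c) (q1ik : Cki * ck + Cik * ci - ci * ck = c)
    (q1jk : Ckj * ck + Cjk * cj - cj * ck = c)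
    (q2ij : Cji * bi + Cij * bj - bi * bj = cb) (q2ik : Cki * bi + Cik * bk - bi * bk = cb)
    (q2jk : Ckj * bj + Cjk * bk - bj * bk = cb)
    (t : Cjk * Cki + Ckj * Cji - Cji * Cki + (a + ci + bi) * ci = c)
    (e2 : x2 * x = x2 * x3 + ci * x + bi * x2 - c)
    (e3 : x3 * x = x2 * x3 + (a + ci + bi) * (x - bi) + cb - c) :
    (x2 * x3 + Cji * x - c) * (x2 * x3 + Cki * x - c) =
      (x - Cij) * (x - Cik) * (x2 * x3 - c) + Cjk * (x - Cij) * (x2 * x3 + Cki * x - c) +
        Ckj * (x - Cik) * (x2 * x3 + Cji * x - c) := by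
  obtain rfl : Cji = a + ci + bi + cj + bj - Cij := by linear_combination lij
  obtain rfl : Cki = a + ci + bi + ck + bk - Cik := by linear_combination lik
  obtain rfl : Ckj = a + cj + bj + ck + bk - Cjk := by linear_combination ljk
  linear_combination -(x2 * x3 - c + ci * x) * e3 - (x3 * x) * e2 - x ^ 2 * t +
    (x2 * x3 - c) * (-q1ij - q1ik + q1jk + q2ij + q2ik - q2jk + t) +
    x * ((Cik - Cjk - a - 2 * bi + bj - 2 * ci) * q1ij +
      (Cij + Cjk - 2 * a - bi - bj - bk - 2 * ci - cj - ck) * q1ik +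
      (-Cij - Cik + 2 * a + 2 * bi + bk + 2 * ci + cj + ck) * q1jk +
      (-Cik + Cjk + bi - bj + ci) * q2ij +
      (-Cij - Cjk + a + bi + bj + 2 * ci + cj) * q2ik +
      (Cij + Cik - a - 2 * bi - 2 * ci - cj) * q2jk +
      (a + 2 * bi + 2 * ci) * t)

/-- The involution exchanging the second and the third point. -/
def inv (w : UGen m → S) : UGen m → S
  | .a => -w .a
  | .c => w .c - w .cb
  | .cb => -w .cb
  | .ci i => al w i
  | .cbi i => -w (.cbi i)
  | .cij i j h => w (.cij i j h) - w (.cbi i)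

/-- The involution on points. -/
def invPt (w : UGen m → S) (x : CVar m → S) : CVar m → S
  | .x2 => x .x3
  | .x3 => x .x2
  | .xi i => x (.xi i) - w (.cbi i)

theorem inv_inv (w : UGen m → S) : inv (inv w) = w := by
  funext g
  cases g <;> simp only [inv, al] <;> ring

theorem Rel.inv {w : UGen m → S} (hw : Rel w) : Rel (inv w) := by
  refine ⟨fun i j h => ?_, fun i j h => ?_, fun i j h => ?_, fun i j k hij hjk hik => ?_⟩ <;>
    simp only [Groth.UCurves.inv, al]
  · linear_combination hw.lin i j h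
  · linear_combination hw.q1 i j h - hw.q2 i j h + (w .a + w (.cbi i) + w (.cbi j)) * hw.lin i j h
  · linear_combination -(hw.q2 i j h)
  · linear_combination hw.tri i j k hij hjk hik - hw.q2 i j hij +
      (0 : S) * hw.lin i j hij

theorem Pt.inv {w : UGen m → S} {x : CVar m → S} (hw : Rel w) (h : Pt w x) :
    Pt (inv w) (invPt w x) := by
  refine ⟨fun i => ?_, fun i => ?_, fun i j hij => ?_⟩ <;> simp only [Groth.UCurves.inv, invPt, al]
  · linear_combination h.three i
  · linear_combination h.two i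
  · linear_combination h.pair i j hij + hw.q2 i j hij

end Groth.UCurves
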