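import Mathlib
import Groth.Agent.UCurves.Ident

/-! Laurent expansions at infinity of the curve algebras: linear independence. -/

set_option autoImplicit false
universe u

namespace Groth.UCurves

open W4c5m1nsnscurves
open PowerSeries (X C constantCoeff)

variable {R : Type u} [CommRing R] {m : ℕ}

/-- A contracting self-map of power series has a fixed point. -/
theorem exists_fixed (Φ : PowerSeries R → PowerSeries R)
    (hΦ : ∀ (n : ℕ) (f g : PowerSeries R), X ^ n ∣ f - g → X ^ (n + 1) ∣ Φ f - Φ g) :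
    ∃ f, Φ f = f := by
  let F : ℕ → PowerSeries R := fun n => Φ^[n] 0
  have hstep : ∀ n, X ^ n ∣ F (n + 1) - F n := by
    intro n
    induction n with
    | zero => simp
    | succ n ih => simpa [F, Function.iterate_succ_apply'] using hΦ n _ _ ih
  let f : PowerSeries R := PowerSeries.mk fun n => PowerSeries.coeff n (F (n + 1))
  have hlim : ∀ n, X ^ n ∣ f - F n := by
    intro n
    rw [PowerSeries.X_pow_dvd_iff]
    intro k hk
    have : ∀ l, k + 1 ≤ l → PowerSeries.coeff k (F l) = PowerSeries.coeff k (F (k + 1)) := by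
      intro l hl
      induction l, hl using Nat.le_induction with
      | base => rfl
      | succ l hl ih =>
        rw [← ih, ← sub_eq_zero, ← map_sub]
        exact PowerSeries.X_pow_dvd_iff.1 (hstep l) k (by omega)
    simp [f, this n hk]
  refine ⟨f, sub_eq_zero.1 (PowerSeries.ext fun k => ?_)⟩
  rw [map_zero]
  have h1 : X ^ (k + 2) ∣ Φ f - F (k + 2) := by
    simpa [F, Function.iterate_succ_apply'] using hΦ (k + 1) _ _ (hlim (k + 1))
  have h2 := hlim (k + 2)
  refine PowerSeries.X_pow_dvd_iff.1 ?_ k (show k < k + 2 by omega)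
  simpa using dvd_sub h1 h2

theorem exists_fixed_pair (Φ Ψ : PowerSeries R → PowerSeries R → PowerSeries R)
    (hΦ : ∀ (n : ℕ) (f f' g g' : PowerSeries R), X ^ n ∣ f - f' → X ^ n ∣ g - g' →
      X ^ (n + 1) ∣ Φ f g - Φ f' g' ∧ X ^ (n + 1) ∣ Ψ f g - Ψ f' g') :
    ∃ f g, Φ f g = f ∧ Ψ f g = g := by
  let F : ℕ → PowerSeries R × PowerSeries R := fun n => (fun q => (Φ q.1 q.2, Ψ q.1 q.2))^[n] (0, 0)
  have hstep : ∀ n, X ^ n ∣ (F (n + 1)).1 - (F n).1 ∧ X ^ n ∣ (F (n + 1)).2 - (F n).2 := by
    intro n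
    induction n with
    | zero => simp
    | succ n ih => simpa [F, Function.iterate_succ_apply'] using hΦ n _ _ _ _ ih.1 ih.2
  let f : PowerSeries R := PowerSeries.mk fun n => PowerSeries.coeff n (F (n + 1)).1
  let g : PowerSeries R := PowerSeries.mk fun n => PowerSeries.coeff n (F (n + 1)).2
  have hlim : ∀ n, X ^ n ∣ f - (F n).1 ∧ X ^ n ∣ g - (F n).2 := by
    intro n
    have key : ∀ k l, k + 1 ≤ l → PowerSeries.coeff k (F l).1 = PowerSeries.coeff k (F (k + 1)).1 ∧
        PowerSeries.coeff k (F l).2 = PowerSeries.coeff k (F (k + 1)).2 := by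
      intro k l hl
      induction l, hl using Nat.le_induction with
      | base => exact ⟨rfl, rfl⟩
      | succ l hl ih =>
        constructor
        · rw [← ih.1, ← sub_eq_zero, ← map_sub]
          exact PowerSeries.X_pow_dvd_iff.1 (hstep l).1 k (by omega)
        · rw [← ih.2, ← sub_eq_zero, ← map_sub]
          exact PowerSeries.X_pow_dvd_iff.1 (hstep l).2 k (by omega)
    constructor <;> rw [PowerSeries.X_pow_dvd_iff] <;> intro k hk
    · simp [f, (key k n hk).1]
    · simp [g, (key k n hk).2]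
  refine ⟨f, g, sub_eq_zero.1 (PowerSeries.ext fun k => ?_), sub_eq_zero.1 (PowerSeries.ext fun k => ?_)⟩
  all_goals rw [map_zero]
  all_goals refine PowerSeries.X_pow_dvd_iff.1 ?_ k (show k < k + 2 by omega)
  · have h1 : X ^ (k + 2) ∣ Φ f g - (F (k + 2)).1 := by
      simpa [F, Function.iterate_succ_apply'] using (hΦ (k + 1) _ _ _ _ (hlim (k + 1)).1 (hlim (k + 1)).2).1
    simpa using dvd_sub h1 (hlim (k + 2)).1
  · have h1 : X ^ (k + 2) ∣ Ψ f g - (F (k + 2)).2 := by
      simpa [F, Function.iterate_succ_apply'] using (hΦ (k + 1) _ _ _ _ (hlim (k + 1)).1 (hlim (k + 1)).2).2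
    simpa using dvd_sub h1 (hlim (k + 2)).2

/-- Power series inside Laurent series. -/
noncomputable abbrev ι : PowerSeries R →+* LaurentSeries R := HahnSeries.ofPowerSeries ℤ R

/-- The inverse of the uniformizer. -/
noncomputable def tt : LaurentSeries R := HahnSeries.single (-1) 1

/-- Constants. -/
noncomputable def cst : R →+* LaurentSeries R := ι.comp C

theorem algebraMap_eq_cst (r : R) : algebraMap R (LaurentSeries R) r = cst r := by
  rw [HahnSeries.algebraMap_apply', cst, RingHom.coe_comp, Function.comp_apply]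
  rfl

theorem tt_mul_X : tt * ι X = (1 : LaurentSeries R) := by
  simp [tt, ι, HahnSeries.ofPowerSeries_X]

theorem tt_pow (a : ℕ) : (tt : LaurentSeries R) ^ a = HahnSeries.single (-(a : ℤ)) 1 := by
  simp [tt, HahnSeries.single_pow]

theorem coeff_tt_pow_mul (a : ℕ) (f : PowerSeries R) (n : ℕ) (h : a ≤ n) :
    (tt ^ a * ι f).coeff (-(n : ℤ)) = if a = n then constantCoeff f else 0 := by
  rw [tt_pow, HahnSeries.coeff_single_mul, one_mul]
  split_ifs with e
  · subst e
    rw [sub_self]
    exact (HahnSeries.ofPowerSeries_apply_coeff f 0).trans (PowerSeries.coeff_zero_eq_constantCoeff_apply f)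
  · rw [PowerSeries.coeff_coe, if_pos (by omega)]

theorem isUnit_tt_sub (f : PowerSeries R) : IsUnit (tt - ι f : LaurentSeries R) := by
  have h : (tt - ι f : LaurentSeries R) = tt * ι (1 - X * f) := by
    linear_combination (ι f) * (tt_mul_X (R := R)) + tt * (map_sub ι (1 : PowerSeries R) (X * f)).symm +
      tt * (map_mul ι X f) - tt * (map_one (ι : PowerSeries R →+* LaurentSeries R))
  rw [h]
  refine (IsUnit.of_mul_eq_one _ tt_mul_X).mul (IsUnit.map _ ?_)
  rw [PowerSeries.isUnit_iff_constantCoeff]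
  simp

variable (v : UGen m → R)

/-- The values in Laurent series. -/
noncomputable abbrev cw : UGen m → LaurentSeries R := fun g => cst (v g)

theorem Rel.cw (hv : Rel v) : Rel (cw v) := by
  refine ⟨fun i j h => ?_, fun i j h => ?_, fun i j h => ?_, fun i j k hij hjk hik => ?_⟩ <;>
    simp only [UCurves.cw, al, ← map_add, ← map_sub, ← map_mul]
  · rw [hv.lin i j h]
  · rw [hv.q1 i j h]
  · rw [hv.q2 i j h]
  · exact congrArg cst (hv.tri i j k hij hjk hik)

/-- A point with invertible `x₂ - cᵢ` from a solution of the plane cubic. -/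
theorem exists_pt_of_cubic {w : UGen m → LaurentSeries R} (hw : Rel w) (x2 x3 : LaurentSeries R)
    (hu : ∀ i, IsUnit (x2 - w (.ci i)))
    (hF : ∀ i, x2 * x3 ^ 2 - x2 ^ 2 * x3 = w .a * x2 * x3 + (w .cb - w .c) * x2 + w .c * x3 + dval w i) :
    ∃ x, Pt w x ∧ x .x2 = x2 ∧ x .x3 = x3 ∧
      ∀ i, (x2 - w (.ci i)) * x (.xi i) = x2 * x3 + w (.cbi i) * x2 - w .c := by
  choose e he using fun i => (hu i).exists_right_inv
  let x : CVar m → LaurentSeries R
    | .x2 => x2
    | .x3 => x3
    | .xi i => (x2 * x3 + w (.cbi i) * x2 - w .c) * e i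
  have hx : ∀ i, (x2 - w (.ci i)) * x (.xi i) = x2 * x3 + w (.cbi i) * x2 - w .c := fun i => by
    show (x2 - w (.ci i)) * ((x2 * x3 + w (.cbi i) * x2 - w .c) * e i) = _
    rw [mul_left_comm, he i, mul_one]
  refine ⟨x, ⟨fun i => ?_, fun i => ?_, fun i j h => ?_⟩, rfl, rfl, hx⟩
  · show x2 * x (.xi i) = x2 * x3 + w (.ci i) * x (.xi i) + w (.cbi i) * x2 - w .c
    linear_combination hx i
  · show x3 * x (.xi i) = x2 * x3 + al w i * (x (.xi i) - w (.cbi i)) + w .cb - w .c
    refine (hu i).mul_left_cancel ?_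
    have hF' := hF i
    simp only [dval, al] at hF' ⊢
    linear_combination (x3 - (w .a + w (.ci i) + w (.cbi i))) * hx i + hF'
  · show x (.xi i) * x (.xi j) = x2 * x3 + w (.cij i j h) * x (.xi j) + w (.cij j i h.symm) * x (.xi i) - w .c
    refine ((hu i).mul (hu j)).mul_left_cancel ?_
    have key := pair_key (hw.lin i j h) (hw.q1 i j h) (hw.q2 i j h)
      (x2 := x2) (x3 := x3) (by have := hF i; simpa only [dval, al] using this)
    linear_combination key + ((x2 - w (.ci j)) * x (.xi j) - w (.cij j i h.symm) * (x2 - w (.ci j))) * hx i +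
      (x2 * x3 + w (.cbi i) * x2 - w .c - w (.cij i j h) * (x2 - w (.ci i))) * hx j

/-- The branch where `x₂` and `x₃` both have a pole. -/
theorem exists_branch_one (hv : Rel v) (i₀ : Fin m) :
    ∃ (x : CVar m → LaurentSeries R) (y : PowerSeries R),
      Pt (cw v) x ∧ x .x2 = tt ∧ x .x3 = tt + ι y := by
  obtain ⟨y, hy⟩ := exists_fixed (fun y => C (v .a) +
      X * (-y ^ 2 + C (v .a) * y + C (v .cb - v .c) + C (v .c) + C (v .c) * X * y + C (dval v i₀) * X))
    (fun n f g h => by
      obtain ⟨r, hr⟩ := h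
      exact ⟨r * (-(f + g) + C (v .a) + C (v .c) * X), by
        linear_combination X * (-(f + g) + C (v .a) + C (v .c) * X) * hr⟩)
  have hy' := congrArg ι hy
  simp only [map_add, map_mul, map_neg, map_pow, map_sub] at hy'
  obtain ⟨x, hx, hx2, hx3, -⟩ := exists_pt_of_cubic (hv.cw v) tt (tt + ι y)
    (fun i => isUnit_tt_sub (C (v (.ci i)))) (fun i => by
      have hd : dval (cw v) i = cst (dval v i₀) := by
        rw [hv.dval_eq i₀ i]
        simp only [dval, al, map_add, map_sub, map_mul]
      rw [hd]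
      have h1 := tt_mul_X (R := R)
      simp only [cw, cst, RingHom.coe_comp, Function.comp_apply]
      linear_combination -(tt ^ 2) * hy' + (-(tt * ι y ^ 2) + tt * ι (C (v .a)) * ι y + tt * ι (C (v .cb)) +
        ι (C (v .c)) * ι y * (tt * ι X + 1) + ι (C (dval v i₀)) * (tt * ι X + 1)) * h1)
  exact ⟨x, y, hx, hx2, hx3⟩

/-- The branch where only `x₂` among `x₂, x₃` has a pole. -/
theorem exists_branch_two {v : UGen m → R} (hv : Rel v) (i₀ : Fin m) :
    ∃ (x : CVar m → LaurentSeries R) (y : PowerSeries R) (z : Fin m → PowerSeries R),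
      Pt (cw v) x ∧ x .x2 = tt ∧ x .x3 = ι (X * y) ∧ ∀ i, x (.xi i) = ι (z i) := by
  obtain ⟨y, hy⟩ := exists_fixed (fun y => -C (v .cb - v .c) + X * (X * y ^ 2 - C (v .a) * y -
      C (v .c) * X * y - C (dval v i₀)))
    (fun n f g h => by
      obtain ⟨r, hr⟩ := h
      exact ⟨r * (X * (f + g) - C (v .a) - C (v .c) * X), by
        linear_combination X * (X * (f + g) - C (v .a) - C (v .c) * X) * hr⟩)
  have hy' := congrArg ι hy
  simp only [map_add, map_mul, map_neg, map_pow, map_sub] at hy'
  obtain ⟨x, hx, hx2, hx3, hxi⟩ := exists_pt_of_cubic (hv.cw v) tt (ι (X * y))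
    (fun i => isUnit_tt_sub (C (v (.ci i)))) (fun i => by
      have hd : dval (cw v) i = cst (dval v i₀) := by
        rw [hv.dval_eq i₀ i]
        simp only [dval, al, map_add, map_sub, map_mul]
      rw [hd]
      have h1 := tt_mul_X (R := R)
      simp only [cw, cst, RingHom.coe_comp, Function.comp_apply, map_mul]
      linear_combination tt * hy' + (-(tt * ι y) + ι (C (v .c)) * (ι X * ι y) + ι (C (dval v i₀))) * h1)
  refine ⟨x, y, fun i => (X * y + C (v (.cbi i)) - C (v .c) * X) * (PowerSeries.invOfUnit (1 - C (v (.ci i)) * X) 1),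
    hx, hx2, hx3, fun i => ?_⟩
  refine (isUnit_tt_sub (C (v (.ci i)))).mul_left_cancel ((hxi i).trans ?_)
  have hinv : ι (1 - C (v (.ci i)) * X) * ι (PowerSeries.invOfUnit (1 - C (v (.ci i)) * X) 1) = 1 := by
    rw [← map_mul, PowerSeries.mul_invOfUnit _ 1 (by simp), map_one]
  simp only [map_add, map_sub, map_mul, map_one] at hinv ⊢
  simp only [cw, cst, RingHom.coe_comp, Function.comp_apply]
  have h1 := tt_mul_X (R := R)
  linear_combination (-tt * (ι X * ι y + ι (C (v (.cbi i))) - ι (C (v .c)) * ι X)) * hinv +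
    (ι (C (v .c)) - ι (C (v (.ci i))) * ι (PowerSeries.invOfUnit (1 - C (v (.ci i)) * X) 1) *
      (ι X * ι y + ι (C (v (.cbi i))) - ι (C (v .c)) * ι X)) * h1

/-- The branch where only `x₃` among `x₂, x₃` has a pole. -/
theorem exists_branch_three {v : UGen m → R} (hv : Rel v) (i₀ : Fin m) :
    ∃ (x : CVar m → LaurentSeries R) (y : PowerSeries R) (z : Fin m → PowerSeries R),
      Pt (cw v) x ∧ x .x3 = tt ∧ x .x2 = ι (X * y) ∧ ∀ i, x (.xi i) = ι (z i) := by
  obtain ⟨x, y, z, hx, hx2, hx3, hxi⟩ := exists_branch_two hv.inv i₀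
  have hcw : cw (inv v) = inv (cw v) := by
    funext g
    cases g <;> simp only [cw, inv, al, map_add, map_sub, map_neg]
  rw [hcw] at hx
  refine ⟨invPt (inv (cw v)) x, y, fun i => z i + C (v (.cbi i)), ?_, hx2, hx3, fun i => ?_⟩
  · have := hx.inv ((hv.cw v).inv)
    rwa [inv_inv] at this
  · show x (.xi i) - inv (cw v) (.cbi i) = _
    rw [hxi i, map_add]
    simp only [inv, cw, cst, RingHom.coe_comp, Function.comp_apply, sub_neg_eq_add]

/-- The branch where `xᵢ` has a pole. -/
theorem exists_branch_index {v : UGen m → R} (hv : Rel v) (i : Fin m) :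
    ∃ (x : CVar m → LaurentSeries R) (y : CVar m → PowerSeries R),
      Pt (cw v) x ∧ x (.xi i) = tt ∧ ∀ g, g ≠ .xi i → x g = ι (y g) := by
  classical
  obtain ⟨f, g, hf, hg⟩ := exists_fixed_pair
    (fun f g => C (v (.ci i)) + X * (f * g + C (v (.cbi i)) * f - C (v .c)))
    (fun f g => C (al v i) + X * (f * g - C (al v i) * C (v (.cbi i)) + C (v .cb - v .c) + 0 * g))
    (fun n f f' g g' h h' => by
      obtain ⟨r, hr⟩ := h
      obtain ⟨s, hs⟩ := h'
      exact ⟨⟨r * g + f' * s + C (v (.cbi i)) * r, by linear_combination X * (g + C (v (.cbi i))) * hr + X * f' * hs⟩,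
        ⟨r * g + f' * s, by linear_combination X * g * hr + X * f' * hs⟩⟩)
  have hf' := congrArg ι hf
  have hg' := congrArg ι hg
  simp only [map_add, map_mul, map_neg, map_sub, zero_mul, map_zero, add_zero, al] at hf' hg'
  have h1 := tt_mul_X (R := R)
  let q : (j : Fin m) → j ≠ i → PowerSeries R := fun j h =>
    (f * g * X + C (v (.cij j i h)) - C (v .c) * X) *
      PowerSeries.invOfUnit (1 - C (v (.cij i j h.symm)) * X) 1
  let y : CVar m → PowerSeries R
    | .x2 => f
    | .x3 => g
    | .xi j => if h : j ≠ i then q j h else 0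
  let x : CVar m → LaurentSeries R := fun c => if c = .xi i then tt else ι (y c)
  have hxi : x (.xi i) = tt := if_pos rfl
  have hx2 : x .x2 = ι f := if_neg (by simp)
  have hx3 : x .x3 = ι g := if_neg (by simp)
  have hxj : ∀ j (h : j ≠ i), x (.xi j) = ι (q j h) := fun j h => by
    show (if CVar.xi j = CVar.xi i then tt else ι (y (.xi j))) = _
    rw [if_neg (by simpa using h)]
    exact congrArg ι (dif_pos h)
  have e2 : x .x2 * x (.xi i) = x .x2 * x .x3 + cw v (.ci i) * x (.xi i) + cw v (.cbi i) * x .x2 - cw v .c := by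
    rw [hx2, hx3, hxi]
    simp only [cw, cst, RingHom.coe_comp, Function.comp_apply]
    linear_combination -tt * hf' + (ι f * ι g + ι (C (v (.cbi i))) * ι f - ι (C (v .c))) * h1
  have e3 : x .x3 * x (.xi i) = x .x2 * x .x3 + al (cw v) i * (x (.xi i) - cw v (.cbi i)) + cw v .cb - cw v .c := by
    rw [hx2, hx3, hxi]
    simp only [cw, cst, RingHom.coe_comp, Function.comp_apply, al]
    linear_combination -tt * hg' + (ι f * ι g - (ι (C (v .a)) + ι (C (v (.ci i))) + ι (C (v (.cbi i)))) *
      ι (C (v (.cbi i))) + (ι (C (v .cb)) - ι (C (v .c)))) * h1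
  -- the defining equation of the other coordinates
  have hM : ∀ j (h : j ≠ i), (x (.xi i) - cw v (.cij i j h.symm)) * x (.xi j) =
      x .x2 * x .x3 + cw v (.cij j i h) * x (.xi i) - cw v .c := by
    intro j h
    rw [hxi, hxj j h, hx2, hx3]
    have hinv : ι (1 - C (v (.cij i j h.symm)) * X) *
        ι (PowerSeries.invOfUnit (1 - C (v (.cij i j h.symm)) * X) 1) = 1 := by
      rw [← map_mul, PowerSeries.mul_invOfUnit _ 1 (by simp), map_one]
    simp only [map_add, map_sub, map_mul, map_one, q] at hinv ⊢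
    simp only [cw, cst, RingHom.coe_comp, Function.comp_apply]
    linear_combination (tt * (ι f * ι g * ι X + ι (C (v (.cij j i h))) - ι (C (v .c)) * ι X)) * hinv +
      ((ι f * ι g - ι (C (v .c))) + ι (C (v (.cij i j h.symm))) *
        ι (PowerSeries.invOfUnit (1 - C (v (.cij i j h.symm)) * X) 1) *
        (ι f * ι g * ι X + ι (C (v (.cij j i h))) - ι (C (v .c)) * ι X)) * h1
  have hu : ∀ j (h : j ≠ i), IsUnit (x (.xi i) - cw v (.cij i j h.symm)) := fun j h => by
    rw [hxi]; exact isUnit_tt_sub (C (v (.cij i j h.symm)))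
  have hw : Rel (cw v) := hv.cw v
  have htwo : ∀ (w : UGen m → LaurentSeries R) (X2 X3 Y Z : LaurentSeries R) (j : Fin m) (h : j ≠ i), Rel w →
      IsUnit (Y - w (.cij i j h.symm)) →
      X2 * Y = X2 * X3 + w (.ci i) * Y + w (.cbi i) * X2 - w .c →
      X3 * Y = X2 * X3 + al w i * (Y - w (.cbi i)) + w .cb - w .c →
      (Y - w (.cij i j h.symm)) * Z = X2 * X3 + w (.cij j i h) * Y - w .c →
      X2 * Z = X2 * X3 + w (.ci j) * Z + w (.cbi j) * X2 - w .c := by
    intro w X2 X3 Y Z j h hw hu e2 e3 hZ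
    refine hu.mul_left_cancel ?_
    have key := x2_key (hw.lin i j h.symm) (hw.q1 i j h.symm) (hw.q2 i j h.symm) (x2 := X2) (x3 := X3) (x := Y) e2
      (by simpa only [al] using e3)
    linear_combination key + (X2 - w (.ci j)) * hZ
  refine ⟨x, y, ⟨fun j => ?_, fun j => ?_, fun j l hjl => ?_⟩, hxi, fun c hc => if_neg hc⟩
  · rcases eq_or_ne j i with rfl | h
    · exact e2
    · exact htwo _ _ _ _ _ j h hw (hu j h) e2 e3 (hM j h)
  · rcases eq_or_ne j i with rfl | h
    · exact e3
    · have hq2 := hw.q2 i j h.symm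
      have := htwo (inv (cw v)) (x .x3) (x .x2) (x (.xi i) - cw v (.cbi i)) (x (.xi j) - cw v (.cbi j)) j h hw.inv
        (by simpa [inv] using hu j h)
        (by simp only [inv, al]; linear_combination e3) (by simp only [inv, al]; linear_combination e2)
        (by simp only [inv]; linear_combination hM j h + hq2)
      simp only [inv, al] at this ⊢
      linear_combination this
  · rcases eq_or_ne j i with rfl | hj
    · linear_combination hM l hjl.symm
    rcases eq_or_ne l i with rfl | hl
    · linear_combination hM j hjl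
    refine ((hu j hj).mul (hu l hl)).mul_left_cancel ?_
    have key := tri_key (hw.lin i j hj.symm) (hw.lin i l hl.symm) (hw.lin j l hjl) (hw.q1 i j hj.symm)
      (hw.q1 i l hl.symm) (hw.q1 j l hjl) (hw.q2 i j hj.symm) (hw.q2 i l hl.symm) (hw.q2 j l hjl)
      (hw.tri j l i hjl hl hj) (x2 := x .x2) (x3 := x .x3) (x := x (.xi i)) e2 (by simpa only [al] using e3)
    linear_combination key + ((x (.xi i) - cw v (.cij i l hl.symm)) * x (.xi l) -
        cw v (.cij l j hjl.symm) * (x (.xi i) - cw v (.cij i l hl.symm))) * hM j hj +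
      (x .x2 * x .x3 + cw v (.cij j i hj) * x (.xi i) - cw v .c -
        cw v (.cij j l hjl) * (x (.xi i) - cw v (.cij i j hj.symm))) * hM l hl

theorem crel_le {S : Type u} [CommRing S] [Algebra R S] {v : UGen m → R} {x : CVar m → S}
    (hx : Pt (fun g => algebraMap R S (v g)) x) :
    ∀ p ∈ Ideal.span (CRel R m v), MvPolynomial.aeval (R := R) x p = 0 := by
  intro p hp
  refine (Ideal.span_le (I := RingHom.ker (MvPolynomial.aeval (R := R) x))).2 ?_ hp
  rintro q ((⟨i, rfl⟩ | ⟨i, rfl⟩) | ⟨⟨⟨i, j⟩, h⟩, rfl⟩) <;>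
    simp only [SetLike.mem_coe, RingHom.mem_ker, map_sub, map_add, map_mul, MvPolynomial.aeval_X, MvPolynomial.aeval_C]
  · linear_combination hx.two i
  · linear_combination hx.three i
  · linear_combination hx.pair i j h

/-- The monomials are independent as soon as the relations hold. -/
theorem linearIndependent_cmon {v : UGen m → R} (hv : Rel v) (hm : 1 ≤ m) :
    LinearIndependent R (cmon R m v) := by
  classical
  rw [linearIndependent_iff]
  intro l hl
  rw [Finsupp.linearCombination_apply] at hl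
  let i₀ : Fin m := ⟨0, hm⟩
  have push : ∀ x : CVar m → LaurentSeries R, Pt (cw v) x → ∃ φ : CurveAlg R m v →ₐ[R] LaurentSeries R,
      (∀ g k, φ (cmon R m v (some (Sum.inr (g, k)))) = x g ^ (k + 1)) ∧
      (∀ k, φ (cmon R m v (some (Sum.inl k))) = x .x2 ^ (k + 1) * x .x3) ∧ φ (cmon R m v none) = 1 := by
    intro x hx
    refine ⟨Ideal.Quotient.liftₐ _ (MvPolynomial.aeval x)
      (crel_le (v := v) (by simpa only [algebraMap_eq_cst] using hx)), fun g k => ?_, fun k => ?_, map_one _⟩
    · show MvPolynomial.aeval x (MvPolynomial.X g ^ (k + 1)) = _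
      simp
    · show MvPolynomial.aeval x (MvPolynomial.X CVar.x2 ^ (k + 1) * MvPolynomial.X CVar.x3) = _
      simp
  have coeffs : ∀ (φ : CurveAlg R m v →ₐ[R] LaurentSeries R) (n : ℤ),
      ∑ o ∈ l.support, l o * (φ (cmon R m v o)).coeff n = 0 := by
    intro φ n
    have := congrArg (fun z => (φ z).coeff n) hl
    simp only [Finsupp.sum, map_sum, map_zero, HahnSeries.coeff_sum, HahnSeries.coeff_zero] at this
    refine Eq.trans (Finset.sum_congr rfl fun o _ => ?_) this
    rw [show φ (l o • cmon R m v o) = cst (l o) * φ (cmon R m v o) from ?_]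
    · rw [show cst (l o) = (HahnSeries.C (l o) : LaurentSeries R) from HahnSeries.ofPowerSeries_C _,
        HahnSeries.C_mul_eq_smul, HahnSeries.coeff_smul, smul_eq_mul]
    · refine (congrArg φ (Algebra.smul_def (l o) (cmon R m v o))).trans ?_
      rw [map_mul, AlgHom.commutes, algebraMap_eq_cst]
  have single : ∀ (φ : CurveAlg R m v →ₐ[R] LaurentSeries R) (n : ℤ) (o₀ : Option (ℕ ⊕ (CVar m × ℕ))),
      (φ (cmon R m v o₀)).coeff n = 1 → (∀ o, o ≠ o₀ → l o * (φ (cmon R m v o)).coeff n = 0) → l o₀ = 0 := by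
    intro φ n o₀ h1 h0
    have h := coeffs φ n
    rw [Finset.sum_eq_single o₀ (fun o _ ho => h0 o ho) (fun ho => by
      simp [Finsupp.notMem_support_iff.1 ho])] at h
    rwa [h1, mul_one] at h
  have hpow : ∀ (a n : ℕ), a ≤ n → (tt ^ a : LaurentSeries R).coeff (-(n : ℤ)) = if a = n then 1 else 0 := by
    intro a n h
    simpa using coeff_tt_pow_mul (R := R) a 1 n h
  have hps : ∀ (f : PowerSeries R) (n : ℕ), (ι f).coeff (-((n + 1 : ℕ) : ℤ)) = 0 := fun f n => by
    simpa using coeff_tt_pow_mul 0 f (n + 1) (by omega)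
  have hone : ∀ n : ℕ, (1 : LaurentSeries R).coeff (-((n + 1 : ℕ) : ℤ)) = 0 := fun n => by
    simpa using hps 1 n
  have hge : ∀ (a k n : ℕ), n ≠ a → (tt ^ (a + 1) : LaurentSeries R).coeff (-((n + 1 : ℕ) : ℤ)) = 0 := by
    intro a k n h
    rw [tt_pow, HahnSeries.coeff_single_of_ne]
    omega
  have hxi0 : ∀ i k, l (some (Sum.inr (.xi i, k))) = 0 := by
    intro i k
    obtain ⟨x, y, hx, hxi, hoth⟩ := exists_branch_index hv i
    obtain ⟨φ, h1, h2, h3⟩ := push x hx
    refine single φ (-((k + 1 : ℕ) : ℤ)) _ (by rw [h1, hxi, hpow _ _ le_rfl, if_pos rfl]) ?_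
    rintro (_ | (n | ⟨g, n⟩)) ho
    · rw [h3, hone, mul_zero]
    · rw [h2, hoth _ (by simp), hoth _ (by simp), ← map_pow, ← map_mul, hps, mul_zero]
    · rw [h1]
      rcases eq_or_ne g (.xi i) with rfl | hg
      · rw [hxi, hge n 0 k (by rintro rfl; exact ho rfl), mul_zero]
      · rw [hoth g hg, ← map_pow, hps, mul_zero]
  have h30 : ∀ k, l (some (Sum.inr (.x3, k))) = 0 := by
    intro k
    obtain ⟨x, y, z, hx, hx3, hx2, hxi⟩ := exists_branch_three hv i₀
    obtain ⟨φ, h1, h2, h3⟩ := push x hx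
    refine single φ (-((k + 1 : ℕ) : ℤ)) _ (by rw [h1, hx3, hpow _ _ le_rfl, if_pos rfl]) ?_
    rintro (_ | (n | ⟨g, n⟩)) ho
    · rw [h3, hone, mul_zero]
    · have hxx : x .x2 * x .x3 = ι y := by
        rw [hx2, hx3, map_mul]
        linear_combination ι y * tt_mul_X (R := R)
      rw [h2, pow_succ, mul_assoc, hxx, hx2, ← map_pow, ← map_mul, hps, mul_zero]
    · rw [h1]
      match g with
      | .x2 => rw [hx2, ← map_pow, hps, mul_zero]
      | .x3 => rw [hx3, hge n 0 k (by rintro rfl; exact ho rfl), mul_zero]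
      | .xi i => rw [hxi0, zero_mul]
  obtain ⟨x', y', z', hx', hx2', hx3', -⟩ := exists_branch_two hv i₀
  obtain ⟨x, y, hx, hx2, hx3⟩ := exists_branch_one v hv i₀
  obtain ⟨φ', g1, g2, g3⟩ := push x' hx'
  obtain ⟨φ, h1, h2, h3⟩ := push x hx
  -- descending induction
  let K := (l.support.image fun o => match o with
    | some (Sum.inl k) => k + 2
    | some (Sum.inr (_, k)) => k + 1
    | none => 0).sup id
  have hK : ∀ o, l o ≠ 0 → (match o with
      | some (Sum.inl k) => k + 2
      | some (Sum.inr (_, k)) => k + 1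
      | none => 0) ≤ K := fun o ho =>
    Finset.le_sup (f := id) (Finset.mem_image_of_mem _ (Finsupp.mem_support_iff.2 ho))
  have main : ∀ j k, K ≤ k + j → l (some (Sum.inl k)) = 0 ∧ l (some (Sum.inr (.x2, k))) = 0 := by
    intro j
    induction j with
    | zero =>
      intro k hk
      constructor <;> by_contra h <;> have := hK _ h <;> dsimp only at this <;> omega
    | succ j ih =>
      intro k hk
      have hb : ∀ k, K ≤ k + (j + 1) → l (some (Sum.inr (.x2, k))) = 0 := by
        intro k hk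
        refine single φ' (-((k + 1 : ℕ) : ℤ)) _ (by rw [g1, hx2', hpow _ _ le_rfl, if_pos rfl]) ?_
        rintro (_ | (n | ⟨g, n⟩)) ho
        · rw [g3, hone, mul_zero]
        · rcases lt_or_ge k n with hn | hn
          · rw [(ih n (by omega)).1, zero_mul]
          · have : x' .x2 ^ (n + 1) * x' .x3 = tt ^ n * ι y' := by
              rw [hx2', hx3', map_mul, pow_succ]
              linear_combination tt ^ n * ι y' * tt_mul_X (R := R)
            rw [g2, this, coeff_tt_pow_mul _ _ _ (by omega), if_neg (by omega), mul_zero]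
        · rw [g1]
          match g with
          | .x2 => rw [hx2', hge n 0 k (by rintro rfl; exact ho rfl), mul_zero]
          | .x3 => rw [h30, zero_mul]
          | .xi i => rw [hxi0, zero_mul]
      refine ⟨?_, hb k hk⟩
      refine single φ (-((k + 2 : ℕ) : ℤ)) _ ?_ ?_
      · rw [h2, hx2, hx3, mul_add, HahnSeries.coeff_add, coeff_tt_pow_mul _ _ _ (by omega), if_neg (by omega), ← pow_succ,
          hpow _ _ le_rfl, if_pos rfl, add_zero]
      rintro (_ | (n | ⟨g, n⟩)) ho
      · rw [h3, show ((k + 2 : ℕ) : ℤ) = ((k + 1 + 1 : ℕ) : ℤ) from rfl, hone, mul_zero]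
      · rcases lt_trichotomy k n with hn | rfl | hn
        · rw [(ih n (by omega)).1, zero_mul]
        · exact absurd rfl ho
        · rw [h2, hx2, hx3, mul_add, HahnSeries.coeff_add, ← pow_succ, hpow _ _ (by omega), if_neg (by omega),
            coeff_tt_pow_mul _ _ _ (by omega), if_neg (by omega), add_zero, mul_zero]
      · rw [h1]
        match g with
        | .x2 =>
          rcases eq_or_ne n (k + 1) with rfl | hn
          · rw [hb (k + 1) (by omega), zero_mul]
          · rw [hx2, show ((k + 2 : ℕ) : ℤ) = ((k + 1 + 1 : ℕ) : ℤ) from rfl, hge n 0 (k + 1) hn.symm, mul_zero]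
        | .x3 => rw [h30, zero_mul]
        | .xi i => rw [hxi0, zero_mul]
  have hrest : ∀ o, o ≠ none → l o = 0 := by
    rintro (_ | (n | ⟨g, n⟩)) ho
    · exact absurd rfl ho
    · exact (main K n (Nat.le_add_left _ _)).1
    · match g with
      | .x2 => exact (main K n (Nat.le_add_left _ _)).2
      | .x3 => exact h30 n
      | .xi i => exact hxi0 i n
  ext o
  rw [Finsupp.zero_apply]
  by_cases ho : o = none
  · subst ho
    refine single φ 0 none ?_ (fun o ho => by rw [hrest o ho, zero_mul])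
    rw [h3]
    simp
  · exact hrest o ho

end Groth.UCurves
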